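import Groth.Prelude.Def_W4c2conddiscmodels
import Mathlib.Algebra.BigOperators.Fin
import Mathlib.Algebra.BigOperators.Ring.Finset
import Mathlib.Tactic.Linarith
import Mathlib.Tactic.LinearCombination

/-!
Contracting a chain of `(-2)`-vertices does not change the component group: injectivity.
-/

set_option autoImplicit false

noncomputable section

universe u

open Finset

namespace Groth.L15.CompGrp

open LabGraph

variable {V E : Type u} [Fintype V] [Fintype E] [DecidableEq V] [DecidableEq E]

/-- The sum of `z` over the neighbours of `v`, with multiplicity. -/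
def nb (ends : E → V × V) (v : V) (z : V → ℤ) : ℤ :=
  ∑ u ∈ univ.erase v, z u * (edgeMult ends v u : ℤ)

theorem nb_congr {ends : E → V × V} {v : V} {z z' : V → ℤ}
    (h : ∀ u, u ≠ v → 0 < edgeMult ends v u → z u = z' u) : nb ends v z = nb ends v z' := by
  refine sum_congr rfl fun u hu => ?_
  rcases Nat.eq_zero_or_pos (edgeMult ends v u) with h0 | h0
  · simp [h0]
  · rw [h u (ne_of_mem_erase hu) h0]

theorem nb_sub_smul (ends : E → V × V) (v : V) (z z' : V → ℤ) (d : ℤ) :
    nb ends v (fun u => z u - d * z' u) = nb ends v z - d * nb ends v z' := by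
  simp only [nb, mul_sum, ← sum_sub_distrib]
  exact sum_congr rfl fun u _ => by ring

theorem exists_edge_of_mult {ends : E → V × V} {v u : V} (h : 0 < edgeMult ends v u) :
    ∃ e, ends e = (v, u) ∨ ends e = (u, v) := by
  obtain ⟨e, he⟩ := card_pos.1 h
  exact ⟨e, (mem_filter.1 he).2⟩

theorem mult_pos {ends : E → V × V} {v u : V} {e : E} (h : ends e = (v, u) ∨ ends e = (u, v)) :
    0 < edgeMult ends v u :=
  card_pos.2 ⟨e, mem_filter.2 ⟨mem_univ _, h⟩⟩

theorem mult_comm (ends : E → V × V) (v u : V) : edgeMult ends v u = edgeMult ends u v := by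
  simp only [edgeMult, or_comm]

theorem nb_eq_sum_edges (ends : E → V × V) (v : V) (z : V → ℤ) :
    nb ends v z = ∑ e, ((if (ends e).1 = v ∧ (ends e).2 ≠ v then z (ends e).2 else 0) +
      (if (ends e).2 = v ∧ (ends e).1 ≠ v then z (ends e).1 else 0)) := by
  have h : ∀ u ∈ univ.erase v, z u * (edgeMult ends v u : ℤ) =
      ∑ e, if ends e = (v, u) ∨ ends e = (u, v) then z u else 0 := by
    intro u _
    rw [← sum_filter, sum_const, nsmul_eq_mul, mul_comm]
    rfl
  rw [nb, sum_congr rfl h, sum_comm]
  refine sum_congr rfl fun e _ => ?_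
  rcases e' : ends e with ⟨a, b⟩
  by_cases ha : a = v <;> by_cases hb : b = v
  · subst ha; subst hb
    simp only [ne_eq, not_true_eq_false, and_false, if_false, add_zero]
    refine sum_eq_zero fun u hu => if_neg ?_
    have := ne_of_mem_erase hu
    rintro (h | h) <;> simp_all
  · subst ha
    rw [if_pos ⟨rfl, hb⟩, if_neg (fun h => hb h.1), add_zero, sum_eq_single b]
    · rw [if_pos (Or.inl rfl)]
    · intro u hu hub
      refine if_neg ?_
      have := ne_of_mem_erase hu
      rintro (h | h) <;> simp_all
    · intro h; exact absurd (mem_erase.2 ⟨hb, mem_univ _⟩) h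
  · subst hb
    rw [if_neg (fun h => ha h.1), if_pos ⟨rfl, ha⟩, zero_add, sum_eq_single a]
    · rw [if_pos (Or.inr rfl)]
    · intro u hu hua
      refine if_neg ?_
      have := ne_of_mem_erase hu
      rintro (h | h) <;> simp_all
    · intro h; exact absurd (mem_erase.2 ⟨ha, mem_univ _⟩) h
  · rw [if_neg (fun h => ha h.1), if_neg (fun h => hb h.1), add_zero]
    exact sum_eq_zero fun u _ => if_neg (by rintro (h | h) <;> simp_all)

theorem mf_diag (ends : E → V × V) (β : V → ℤ) (v : V) :
    mfMatrix ends β v v = -(nb ends v β) / β v := if_pos rfl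

theorem mulVec_eq (ends : E → V × V) (β z : V → ℤ) (v : V) :
    (mfMatrix ends β).mulVec z v = mfMatrix ends β v v * z v + nb ends v z := by
  rw [Matrix.mulVec, dotProduct, ← add_sum_erase _ _ (mem_univ v)]
  refine congrArg _ (sum_congr rfl fun u hu => ?_)
  rw [mfMatrix, if_neg (ne_of_mem_erase hu).symm, mul_comm]

theorem nb_ctr (ends : E → V × V) (D : Finset E) (c : DualGr.CtrVert ends D)
    (z : DualGr.CtrVert ends D → ℤ) :
    nb (DualGr.ctrEnds ends D) c z = ∑ e,
      ((if DualGr.ctrMk ends D (ends e).1 = c ∧ DualGr.ctrMk ends D (ends e).2 ≠ c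
          then z (DualGr.ctrMk ends D (ends e).2) else 0) +
        (if DualGr.ctrMk ends D (ends e).2 = c ∧ DualGr.ctrMk ends D (ends e).1 ≠ c
          then z (DualGr.ctrMk ends D (ends e).1) else 0)) := by
  rw [nb_eq_sum_edges]
  symm
  rw [← sum_filter_of_ne (p := fun e => e ∉ D)]
  · exact sum_subtype _ (by simp) _
  · intro e _ he hD
    refine he ?_
    have := DualGr.ctrMk_fst_eq_ctrMk_snd ends D hD
    rw [if_neg, if_neg, add_zero]
    · rintro ⟨h1, h2⟩; exact h2 (this.trans h1)
    · rintro ⟨h1, h2⟩; exact h2 (this.symm.trans h1)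

theorem main (ends : E → V × V) (β : V → ℤ) (hβ : IsMultFn ends β)
    (m : ℕ) (f : Fin (m + 1) → V) (e : Fin m → E) (hC : IsChain ends f e)
    (hconn : ∀ i, IsConnecting ends (e i)) (hβm : ∀ i, β (f i) = m)
    (hα : ∀ i, mfMatrix ends β (f i) (f i) = -2)
    (x : DualGr.CtrVert ends (univ.image e) → ℤ)
    (hfx : liftAt ends (univ.image e) (f 0) x ∈
      LinearMap.range (Matrix.mulVecLin (mfMatrix ends β))) :
    x ∈ LinearMap.range (Matrix.mulVecLin
      (mfMatrix (DualGr.ctrEnds ends (univ.image e)) (ctrFn ends (univ.image e) β))) := by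
  classical
  obtain ⟨hfi, -, he⟩ := hC
  obtain ⟨z, hz⟩ := hfx
  have hz' : ∀ v, mfMatrix ends β v v * z v + nb ends v z =
      liftAt ends (univ.image e) (f 0) x v := fun v => by
    rw [← mulVec_eq]; exact congrFun hz v
  have hm : 0 < m := by
    have := (hβ (f 0)).1
    rw [hβm] at this
    exact_mod_cast this
  -- vertices of the chain indexed by natural numbers
  let F : ℕ → V := fun i => if h : i ≤ m then f ⟨i, by omega⟩ else f 0
  have hF : ∀ i (h : i ≤ m), F i = f ⟨i, by omega⟩ := fun i h => dif_pos h
  have hFinj : ∀ i j, i ≤ m → j ≤ m → F i = F j → i = j := fun i j hi hj h => by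
    rw [hF i hi, hF j hj] at h
    exact congrArg Fin.val (hfi h)
  have hF0 : F 0 = f 0 := hF 0 (Nat.zero_le _)
  have hFβ : ∀ i, i ≤ m → β (F i) = m := fun i hi => by rw [hF i hi, hβm]
  have hFα : ∀ i, i ≤ m → mfMatrix ends β (F i) (F i) = -2 := fun i hi => by rw [hF i hi]; exact hα _
  have hFe : ∀ i (h : i < m), ends (e ⟨i, h⟩) = (F i, F (i + 1)) ∨
      ends (e ⟨i, h⟩) = (F (i + 1), F i) := fun i h => by
    rw [hF i h.le, hF (i + 1) h]; exact he ⟨i, h⟩
  have hadj : ∀ i, i < m → 0 < edgeMult ends (F i) (F (i + 1)) := fun i h => mult_pos (hFe i h)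
  let ch : V → Prop := fun v => ∃ i, i ≤ m ∧ F i = v
  -- each chain vertex has weighted neighbour sum `2m`
  have hsum : ∀ i, i ≤ m → nb ends (F i) β = 2 * m := fun i hi => by
    have h := hFα i hi
    rw [mf_diag, hFβ i hi] at h
    have hd : (m : ℤ) ∣ -(nb ends (F i) β) := by
      rw [← hFβ i hi]; exact dvd_neg.2 (hβ (F i)).2
    obtain ⟨q, hq⟩ := hd
    rw [hq, Int.mul_ediv_cancel_left _ (by exact_mod_cast hm.ne')] at h
    subst h
    linarith
  -- middle vertices only meet their two chain neighbours
  have hmid : ∀ i, 0 < i → i < m → ∀ u, u ≠ F i → 0 < edgeMult ends (F i) u →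
      (u = F (i - 1) ∨ u = F (i + 1)) ∧ edgeMult ends (F i) u = 1 := by
    intro i h0 hi u hu hpos
    have h1 : 0 < edgeMult ends (F i) (F (i - 1)) := by
      rw [mult_comm]
      have := hadj (i - 1) (by omega)
      rwa [Nat.sub_add_cancel h0] at this
    have h2 := hadj i hi
    have hne1 : F (i - 1) ≠ F i := fun h => by have := hFinj _ _ (by omega) (by omega) h; omega
    have hne2 : F (i + 1) ≠ F i := fun h => by have := hFinj _ _ (by omega) (by omega) h; omega
    have hne3 : F (i + 1) ≠ F (i - 1) := fun h => by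
      have := hFinj _ _ (by omega) (by omega) h; omega
    let g : V → ℤ := fun w => β w * (edgeMult ends (F i) w : ℤ)
    have hg : ∀ w ∈ univ.erase (F i), 0 ≤ g w := fun w _ =>
      mul_nonneg (hβ w).1.le (Int.natCast_nonneg _)
    have hA : F (i - 1) ∈ univ.erase (F i) := mem_erase.2 ⟨hne1, mem_univ _⟩
    have hB : F (i + 1) ∈ (univ.erase (F i)).erase (F (i - 1)) :=
      mem_erase.2 ⟨hne3, mem_erase.2 ⟨hne2, mem_univ _⟩⟩
    have htot : g (F (i - 1)) + (g (F (i + 1)) +
        ∑ w ∈ ((univ.erase (F i)).erase (F (i - 1))).erase (F (i + 1)), g w) = 2 * m := by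
      rw [add_sum_erase _ _ hB, add_sum_erase _ _ hA]
      exact hsum i hi.le
    have hmz : (0 : ℤ) < m := by exact_mod_cast hm
    have hg1 : g (F (i - 1)) = m * edgeMult ends (F i) (F (i - 1)) := by
      simp only [g, hFβ (i - 1) (by omega)]
    have hg2 : g (F (i + 1)) = m * edgeMult ends (F i) (F (i + 1)) := by
      simp only [g, hFβ (i + 1) (by omega)]
    have hm1 : (m : ℤ) ≤ g (F (i - 1)) := by
      rw [hg1]; exact le_mul_of_one_le_right hmz.le (by exact_mod_cast h1)
    have hm2 : (m : ℤ) ≤ g (F (i + 1)) := by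
      rw [hg2]; exact le_mul_of_one_le_right hmz.le (by exact_mod_cast h2)
    have hrest : 0 ≤ ∑ w ∈ ((univ.erase (F i)).erase (F (i - 1))).erase (F (i + 1)), g w :=
      sum_nonneg fun w hw => hg w (mem_of_mem_erase (mem_of_mem_erase hw))
    by_cases hu1 : u = F (i - 1)
    · refine ⟨Or.inl hu1, ?_⟩
      subst hu1
      have : g (F (i - 1)) = m := by linarith
      rw [hg1] at this
      exact_mod_cast mul_left_cancel₀ hmz.ne' (this.trans (mul_one _).symm)
    by_cases hu2 : u = F (i + 1)
    · refine ⟨Or.inr hu2, ?_⟩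
      subst hu2
      have : g (F (i + 1)) = m := by linarith
      rw [hg2] at this
      exact_mod_cast mul_left_cancel₀ hmz.ne' (this.trans (mul_one _).symm)
    exfalso
    have hmem : u ∈ ((univ.erase (F i)).erase (F (i - 1))).erase (F (i + 1)) :=
      mem_erase.2 ⟨hu2, mem_erase.2 ⟨hu1, mem_erase.2 ⟨hu, mem_univ _⟩⟩⟩
    have hle := single_le_sum (fun w hw => hg w (mem_of_mem_erase (mem_of_mem_erase hw))) hmem
    have : 0 < g u := mul_pos (hβ u).1 (by exact_mod_cast hpos)
    linarith
  -- the side of `f m` after cutting the first edge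
  obtain ⟨S, hS⟩ := hconn ⟨0, hm⟩
  let B : Set V := {v | (v ∈ S ↔ F 1 ∈ S)}
  have hcross0 : (F 0 ∈ S ↔ F 1 ∉ S) := by
    have h := (hS (e ⟨0, hm⟩)).2 rfl
    rcases hFe 0 hm with h' | h' <;> rw [h'] at h <;> simp only [zero_add] at h <;> tauto
  have hB1 : F 1 ∈ B := Iff.rfl
  have hB0 : F 0 ∉ B := by
    simp only [B, Set.mem_setOf_eq]; tauto
  have hcross : ∀ a b : V, ∀ e', (ends e' = (a, b) ∨ ends e' = (b, a)) → a ∈ B → b ∉ B →
      a = F 1 ∧ b = F 0 := by
    intro a b e' hab haB hbB
    simp only [B, Set.mem_setOf_eq] at haB hbB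
    have h1 : ((ends e').1 ∈ S ↔ (ends e').2 ∉ S) := by
      rcases hab with h | h <;> rw [h] <;> tauto
    have h2 := (hS e').1 h1
    subst h2
    have hne : a ≠ F 0 := fun h => by subst h; tauto
    rcases hFe 0 hm with h | h <;> rcases hab with h' | h' <;> rw [h] at h' <;>
      simp only [Prod.mk.injEq, zero_add] at h' <;> obtain ⟨h3, h4⟩ := h' <;>
      first
        | exact ⟨h4.symm, h3.symm⟩
        | exact ⟨h3.symm, h4.symm⟩
        | exact absurd h3.symm hne
        | exact absurd h4.symm hne
  have hBF : ∀ i, 1 ≤ i → i ≤ m → F i ∈ B := by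
    intro i h1
    induction i, h1 using Nat.le_induction with
    | base => exact fun _ => hB1
    | succ i h1 ih =>
      intro hi
      by_contra hn
      have := (hcross (F i) (F (i + 1)) _ (hFe i (by omega)) (ih (by omega)) hn).2
      have := hFinj _ _ hi (Nat.zero_le _) this
      omega
  -- the values of `z` along the chain are affine
  set d : ℤ := z (F 1) - z (F 0) with hd
  have hlift : ∀ i, i ≤ m → liftAt ends (univ.image e) (f 0) x (F i) =
      if i = 0 then x (DualGr.ctrMk ends (univ.image e) (f 0)) else 0 := by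
    intro i hi
    have hcl : ∀ j, j ≤ m → DualGr.ctrMk ends (univ.image e) (F j) = DualGr.ctrMk ends (univ.image e) (f 0) := by
      intro j
      induction j with
      | zero => intro _; rw [hF0]
      | succ j ih =>
        intro hj
        rw [← ih (by omega)]
        have hmem : e ⟨j, hj⟩ ∈ (univ.image e) := mem_image_of_mem _ (mem_univ _)
        have := DualGr.ctrMk_fst_eq_ctrMk_snd ends (univ.image e) hmem
        rcases hFe j hj with h | h <;> rw [h] at this
        · exact this.symm
        · exact this
    rw [liftAt]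
    by_cases h0 : i = 0
    · subst h0
      rw [if_neg (fun h => h.2 hF0), if_pos rfl, hF0]
    · rw [if_pos ⟨hcl i hi, fun h => h0 (hFinj i 0 hi (Nat.zero_le _) (h.trans hF0.symm))⟩,
        if_neg h0]
  have haff : ∀ i, i ≤ m → z (F i) = z (F 0) + i * d := by
    intro i
    induction i using Nat.strong_induction_on with
    | _ i ih =>
      intro hi
      rcases i with _ | _ | i
      · simp
      · simp [hd]
      have h1 := hz' (F (i + 1))
      rw [hlift _ (by omega), if_neg (by omega), hFα _ (by omega)] at h1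
      have hnb : nb ends (F (i + 1)) z = z (F i) + z (F (i + 2)) := by
        have hne : F i ≠ F (i + 2) := fun h => by have := hFinj _ _ (by omega) (by omega) h; omega
        have hne1 : F i ≠ F (i + 1) := fun h => by have := hFinj _ _ (by omega) (by omega) h; omega
        have hne2 : F (i + 2) ≠ F (i + 1) := fun h => by have := hFinj _ _ (by omega) (by omega) h; omega
        have ha : 0 < edgeMult ends (F (i + 1)) (F i) := by rw [mult_comm]; exact hadj i (by omega)
        have hb := hadj (i + 1) (by omega)
        rw [nb, sum_eq_add (F i) (F (i + 2)) hne]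
        · rw [(hmid _ (by omega) (by omega) _ hne1 ha).2, (hmid _ (by omega) (by omega) _ hne2 hb).2]
          simp
        · intro u hu hu'
          rcases Nat.eq_zero_or_pos (edgeMult ends (F (i + 1)) u) with h0 | h0
          · simp [h0]
          · rcases (hmid _ (by omega) (by omega) u (ne_of_mem_erase hu) h0).1 with h | h
            · exact absurd h (by simpa using hu'.1)
            · exact absurd h hu'.2
        · intro h; exact absurd (mem_erase.2 ⟨hne1, mem_univ _⟩) h
        · intro h; exact absurd (mem_erase.2 ⟨hne2, mem_univ _⟩) h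
      rw [hnb, ih i (by omega) (by omega), ih (i + 1) (by omega) (by omega)] at h1
      push_cast at h1 ⊢
      linear_combination h1
  -- neighbours of a vertex outside the chain
  have hout : ∀ v, ¬ ch v → ∀ j, j ≤ m → 0 < edgeMult ends v (F j) →
      (v ∈ B → j = m) ∧ (v ∉ B → j = 0) := by
    intro v hv j hj hpos
    have hj' : j = 0 ∨ j = m := by
      by_contra hcon
      rw [mult_comm] at hpos
      rcases (hmid j (by omega) (by omega) v (fun h => hv ⟨j, hj, h.symm⟩) hpos).1 with h | h
      · exact hv ⟨j - 1, by omega, h.symm⟩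
      · exact hv ⟨j + 1, by omega, h.symm⟩
    obtain ⟨e', he'⟩ := exists_edge_of_mult hpos
    constructor
    · intro hvB
      rcases hj' with rfl | h
      · exact absurd ⟨1, hm, (hcross v (F 0) e' he' hvB hB0).1.symm⟩ hv
      · exact h
    · intro hvB
      by_contra hj0
      exact hv ⟨0, Nat.zero_le _,
        (hcross (F j) v e' he'.symm (hBF j (by omega) hj) hvB).2.symm⟩
  -- the classes of the contraction
  have hcls : ∀ v w, DualGr.ctrMk ends (univ.image e) v = DualGr.ctrMk ends (univ.image e) w ↔ v = w ∨ (ch v ∧ ch w) := by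
    intro v w
    constructor
    · intro h
      have h' : Relation.EqvGen (DualGr.CtrRel ends (univ.image e)) v w := Quotient.exact h
      induction h' with
      | rel a b hab =>
        obtain ⟨e', he', heq⟩ := hab
        obtain ⟨i, -, rfl⟩ := mem_image.1 he'
        right
        rcases hFe i.1 i.2 with h' | h' <;> rw [heq] at h' <;> obtain ⟨h1, h2⟩ := Prod.mk.inj h'
        · exact ⟨⟨_, i.2.le, h1.symm⟩, ⟨_, i.2, h2.symm⟩⟩
        · exact ⟨⟨_, i.2, h1.symm⟩, ⟨_, i.2.le, h2.symm⟩⟩
      | refl a => exact Or.inl rfl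
      | symm a b hab ih =>
        rcases ih (Quotient.sound hab) with h' | ⟨h1, h2⟩
        · exact Or.inl h'.symm
        · exact Or.inr ⟨h2, h1⟩
      | trans a b c hab hbc ih1 ih2 =>
        rcases ih1 (Quotient.sound hab) with h1 | ⟨h1, h1'⟩
        · subst h1; exact ih2 (Quotient.sound hbc)
        · rcases ih2 (Quotient.sound hbc) with h2 | ⟨h2, h2'⟩
          · subst h2; exact Or.inr ⟨h1, h1'⟩
          · exact Or.inr ⟨h1, h2'⟩
    · rintro (rfl | ⟨⟨i, hi, rfl⟩, ⟨j, hj, rfl⟩⟩)
      · rfl
      · have hcl : ∀ j, j ≤ m → DualGr.ctrMk ends (univ.image e) (F j) = DualGr.ctrMk ends (univ.image e) (F 0) := by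
          intro j
          induction j with
          | zero => intro _; rfl
          | succ j ih =>
            intro hj
            rw [← ih (by omega)]
            have hmem : e ⟨j, hj⟩ ∈ (univ.image e) := mem_image_of_mem _ (mem_univ _)
            have := DualGr.ctrMk_fst_eq_ctrMk_snd ends (univ.image e) hmem
            rcases hFe j hj with h | h <;> rw [h] at this
            · exact this.symm
            · exact this
        rw [hcl i hi, hcl j hj]
  -- the new function
  let Z : V → ℤ := fun v => if ch v then z (F 0) else if v ∈ B then z v - d * β v else z v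
  let z' : DualGr.CtrVert ends (univ.image e) → ℤ := fun c => Z (Quotient.out (s := DualGr.ctrSetoid ends (univ.image e)) c)
  have hout' : ∀ v, DualGr.ctrMk ends (univ.image e)
      (Quotient.out (s := DualGr.ctrSetoid ends (univ.image e)) (DualGr.ctrMk ends (univ.image e) v)) = DualGr.ctrMk ends (univ.image e) v :=
    fun v => Quotient.out_eq (s := DualGr.ctrSetoid ends (univ.image e)) _
  have hzZ : ∀ v, z' (DualGr.ctrMk ends (univ.image e) v) = Z v := by
    intro v
    change Z _ = Z v
    rcases (hcls _ _).1 (hout' v) with h | ⟨h1, h2⟩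
    · rw [h]
    · simp only [Z, if_pos h1, if_pos h2]
  have hβc : ∀ v, ctrFn ends (univ.image e) β (DualGr.ctrMk ends (univ.image e) v) = β v := by
    intro v
    change β _ = β v
    rcases (hcls _ _).1 (hout' v) with h | ⟨⟨i, hi, h1⟩, ⟨j, hj, h2⟩⟩
    · rw [h]
    · rw [← h1, hFβ i hi, ← h2, hFβ j hj]
  refine ⟨z', funext fun c => ?_⟩
  obtain ⟨v, rfl⟩ := DualGr.ctrMk_surjective ends (univ.image e) c
  rw [Matrix.mulVecLin_apply, mulVec_eq, hzZ, mf_diag, hβc]
  by_cases hv : ch v
  · -- the class of the chain
    have hxv : DualGr.ctrMk ends (univ.image e) v = DualGr.ctrMk ends (univ.image e) (f 0) :=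
      (hcls _ _).2 (Or.inr ⟨hv, ⟨0, Nat.zero_le _, hF0⟩⟩)
    let ext : ℕ → (V → ℤ) → ℤ := fun j w => nb ends (F j) fun u => if ch u then 0 else w u
    have hnbC : ∀ w : DualGr.CtrVert ends (univ.image e) → ℤ,
        nb (DualGr.ctrEnds ends (univ.image e)) (DualGr.ctrMk ends (univ.image e) v) w =
          ext 0 (fun u => w (DualGr.ctrMk ends (univ.image e) u)) + ext m (fun u => w (DualGr.ctrMk ends (univ.image e) u)) := by
      intro w
      let W : V → ℤ := fun u => if ch u then 0 else w (DualGr.ctrMk ends (univ.image e) u)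
      have h1 : nb (DualGr.ctrEnds ends (univ.image e)) (DualGr.ctrMk ends (univ.image e) v) w =
          ∑ j ∈ range (m + 1), nb ends (F j) W := by
        rw [nb_ctr]
        simp only [nb_eq_sum_edges]
        rw [sum_comm]
        refine sum_congr rfl fun e' _ => ?_
        have hmk : ∀ a, DualGr.ctrMk ends (univ.image e) a = DualGr.ctrMk ends (univ.image e) v ↔ ch a := fun a => by
          rw [hcls]
          exact ⟨fun h => h.elim (fun h => h ▸ hv) And.left, fun h => Or.inr ⟨h, hv⟩⟩
        have key : ∀ a b : V, (if ch a ∧ ¬ ch b then w (DualGr.ctrMk ends (univ.image e) b) else 0) =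
            ∑ j ∈ range (m + 1), if a = F j ∧ b ≠ F j then W b else 0 := by
          intro a b
          by_cases ha : ch a
          · obtain ⟨i, hi, rfl⟩ := ha
            rw [sum_eq_single i]
            · by_cases hb : ch b
              · rw [if_neg (fun h => h.2 hb)]; simp [W, hb]
              · rw [if_pos ⟨⟨i, hi, rfl⟩, hb⟩, if_pos ⟨rfl, fun h => hb ⟨i, hi, h.symm⟩⟩]
                simp [W, hb]
            · intro j hj hji
              refine if_neg fun h => hji ?_
              exact (hFinj i j hi (by simpa [Nat.lt_succ_iff] using hj) h.1).symm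
            · intro h; exact absurd (mem_range.2 (by omega)) h
          · rw [if_neg (fun h => ha h.1)]
            symm
            refine sum_eq_zero fun j hj => if_neg fun h => ha ⟨j, ?_, h.1.symm⟩
            simpa [Nat.lt_succ_iff] using hj
        simp only [ne_eq, hmk, sum_add_distrib]
        rw [key, key]
      rw [h1, sum_eq_add 0 m hm.ne (fun j hj hj' => ?_) (by simp) (by simp)]
      have hjm := mem_range.1 hj
      rw [show (0 : ℤ) = nb ends (F j) fun _ => 0 by simp [nb]]
      refine nb_congr fun u hu hpos => if_pos ?_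
      rcases (hmid j (by omega) (by omega) u hu hpos).1 with h | h
      · exact ⟨j - 1, by omega, h.symm⟩
      · exact ⟨j + 1, by omega, h.symm⟩
    -- at the two ends
    have hsplit : ∀ j k : ℕ, j ≤ m → k ≤ m → (∀ u, u ≠ F j → ch u → 0 < edgeMult ends (F j) u → u = F k) →
        k ≠ j → edgeMult ends (F j) (F k) = 1 → ∀ w : V → ℤ, nb ends (F j) w = w (F k) + ext j w := by
      intro j k hj hk honly hkj h1 w
      have hkne : F k ≠ F j := fun h => hkj (hFinj k j hk hj h)
      rw [← sub_eq_iff_eq_add]
      have : nb ends (F j) w - ext j w = nb ends (F j) (fun u => if ch u then w u else 0) := by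
        simp only [ext, nb, ← sum_sub_distrib]
        exact sum_congr rfl fun u _ => by split_ifs <;> ring
      rw [this, nb, sum_eq_single (F k)]
      · rw [if_pos ⟨k, hk, rfl⟩, h1]; simp
      · intro u hu huk
        rcases Nat.eq_zero_or_pos (edgeMult ends (F j) u) with h0 | h0
        · simp [h0]
        · rw [if_neg fun hc => huk (honly u (ne_of_mem_erase hu) hc h0), zero_mul]
      · intro h; exact absurd (mem_erase.2 ⟨hkne, mem_univ _⟩) h
    have hmult01 : edgeMult ends (F 0) (F 1) = 1 := by
      refine le_antisymm (card_le_one.2 fun a ha b hb => ?_) (hadj 0 hm)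
      have key : ∀ a, a ∈ univ.filter (fun e => ends e = (F 0, F 1) ∨ ends e = (F 1, F 0)) →
          a = e ⟨0, hm⟩ := by
        intro a ha
        refine (hS a).1 ?_
        rcases (mem_filter.1 ha).2 with h | h <;> rw [h] <;> tauto
      rw [key a ha, key b hb]
    obtain ⟨S', hS'⟩ := hconn ⟨m - 1, by omega⟩
    have hem : ends (e ⟨m - 1, by omega⟩) = (F (m - 1), F m) ∨
        ends (e ⟨m - 1, by omega⟩) = (F m, F (m - 1)) := by
      have := hFe (m - 1) (by omega)
      rwa [Nat.sub_add_cancel hm] at this
    have hmultm : edgeMult ends (F m) (F (m - 1)) = 1 := by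
      refine le_antisymm (card_le_one.2 fun a ha b hb => ?_) ?_
      · have h0 := (hS' (e ⟨m - 1, by omega⟩)).2 rfl
        have key : ∀ a, a ∈ univ.filter (fun e => ends e = (F m, F (m - 1)) ∨ ends e = (F (m - 1), F m)) →
            a = e ⟨m - 1, by omega⟩ := by
          intro a ha
          refine (hS' a).1 ?_
          rcases (mem_filter.1 ha).2 with h | h <;> rw [h] <;>
            rcases hem with h' | h' <;> rw [h'] at h0 <;> tauto
        rw [key a ha, key b hb]
      · exact mult_pos hem.symm
    have honly0 : ∀ u, u ≠ F 0 → ch u → 0 < edgeMult ends (F 0) u → u = F 1 := by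
      rintro u hu ⟨j, hj, rfl⟩ hpos
      obtain ⟨e', he'⟩ := exists_edge_of_mult hpos
      exact (hcross (F j) (F 0) e' he'.symm
        (hBF j (Nat.pos_of_ne_zero fun h => hu (by rw [h])) hj) hB0).1
    have honlym : ∀ u, u ≠ F m → ch u → 0 < edgeMult ends (F m) u → u = F (m - 1) := by
      rintro u hu ⟨j, hj, rfl⟩ hpos
      have hjm : j ≠ m := fun h => hu (by rw [h])
      rcases Nat.eq_zero_or_pos j with rfl | hj0
      · obtain ⟨e', he'⟩ := exists_edge_of_mult hpos
        have := hFinj m 1 le_rfl hm (hcross (F m) (F 0) e' he' (hBF m hm le_rfl) hB0).1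
        rw [this]
      · rw [mult_comm] at hpos
        rcases (hmid j hj0 (by omega) _ hu.symm hpos).1 with h | h
        · have := hFinj m _ le_rfl (by omega) h; omega
        · have := hFinj m _ le_rfl (by omega) h; rw [this]; congr 1
    have h0 := hsplit 0 1 (Nat.zero_le _) hm honly0 one_ne_zero hmult01
    have hmm := hsplit m (m - 1) le_rfl (Nat.sub_le _ _) honlym (by omega) hmultm
    have e0 : ext 0 β = m := by
      have h := h0 β
      rw [hsum 0 (Nat.zero_le _), hFβ 1 hm] at h
      linarith
    have em : ext m β = m := by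
      have h := hmm β
      rw [hsum m le_rfl, hFβ (m - 1) (Nat.sub_le _ _)] at h
      linarith
    have hz0 := hz' (F 0)
    rw [hlift 0 (Nat.zero_le _), if_pos rfl, hFα 0 (Nat.zero_le _), h0 z] at hz0
    have hzm := hz' (F m)
    rw [hlift m le_rfl, if_neg (by omega), hFα m le_rfl, hmm z, haff m le_rfl,
      haff (m - 1) (Nat.sub_le _ _), Nat.cast_sub hm] at hzm
    have hdiag : β v = m := by obtain ⟨i, hi, rfl⟩ := hv; exact hFβ i hi
    rw [hnbC, hnbC, hdiag]
    have hb : ∀ j, ext j (fun u => ctrFn ends (univ.image e) β (DualGr.ctrMk ends (univ.image e) u)) = ext j β := fun j => by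
      simp only [hβc]
    have hZ0 : ext 0 (fun u => z' (DualGr.ctrMk ends (univ.image e) u)) = ext 0 z := by
      refine nb_congr fun u hu hpos => ?_
      by_cases hc : ch u
      · simp [hc]
      · rw [mult_comm] at hpos
        have : u ∉ B := fun h => hm.ne ((hout u hc 0 (Nat.zero_le _) hpos).1 h)
        simp only [hc, if_false, hzZ, Z, this]
    have hZm : ext m (fun u => z' (DualGr.ctrMk ends (univ.image e) u)) = ext m z - d * ext m β := by
      simp only [ext]
      rw [← nb_sub_smul]
      refine nb_congr fun u hu hpos => ?_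
      by_cases hc : ch u
      · simp [hc]
      · rw [mult_comm] at hpos
        have : u ∈ B := by
          by_contra h
          exact hm.ne' ((hout u hc m le_rfl hpos).2 h)
        simp only [hc, if_false, hzZ, Z, this, if_true]
    rw [hb, hb, e0, em, hZ0, hZm, em]
    simp only [Z, if_pos hv]
    rw [show (-((m : ℤ) + m)) = (-2) * (m : ℤ) by ring,
      Int.mul_ediv_cancel _ (by exact_mod_cast hm.ne'), hxv]
    push_cast at hzm
    simp only [hd] at *
    linear_combination hz0 + hzm
  · -- a vertex outside the chain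
    have hxv := hz' v
    rw [liftAt, if_neg (fun h => hv (((hcls _ _).1 h.1).elim (fun h' => absurd h' h.2) And.left))] at hxv
    have hnb : ∀ w : DualGr.CtrVert ends (univ.image e) → ℤ,
        nb (DualGr.ctrEnds ends (univ.image e)) (DualGr.ctrMk ends (univ.image e) v) w =
          nb ends v fun u => w (DualGr.ctrMk ends (univ.image e) u) := by
      intro w
      rw [nb_ctr, nb_eq_sum_edges]
      have hmk : ∀ a, DualGr.ctrMk ends (univ.image e) a = DualGr.ctrMk ends (univ.image e) v ↔ a = v := fun a => by
        rw [hcls]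
        exact ⟨fun h => h.elim id fun h => absurd h.2 hv, Or.inl⟩
      simp only [ne_eq, hmk]
    rw [hnb, hnb, show (fun u => ctrFn ends (univ.image e) β (DualGr.ctrMk ends (univ.image e) u)) = β from funext hβc,
      ← mf_diag, show (fun u => z' (DualGr.ctrMk ends (univ.image e) u)) = Z from funext hzZ]
    simp only [Z, if_neg hv]
    by_cases hB : v ∈ B
    · have : nb ends v Z = nb ends v (fun u => z u - d * β u) := by
        refine nb_congr fun u hu hpos => ?_
        by_cases hc : ch u
        · obtain ⟨j, hj, rfl⟩ := hc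
          have := (hout v hv j hj hpos).1 hB
          subst this
          simp only [Z, if_pos (show ch (F j) from ⟨j, le_rfl, rfl⟩), haff j le_rfl, hFβ j le_rfl]
          ring
        · obtain ⟨e', he'⟩ := exists_edge_of_mult hpos
          have huB : u ∈ B := by
            by_contra h
            exact hv ⟨1, hm, (hcross v u e' he' hB h).1.symm⟩
          simp only [Z, if_neg hc, if_pos huB]
      rw [this, nb_sub_smul, if_pos hB]
      obtain ⟨q, hq⟩ := dvd_neg.2 (hβ v).2
      have hdg : mfMatrix ends β v v = q := by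
        rw [mf_diag, show -(nb ends v β) = β v * q from hq, Int.mul_ediv_cancel_left _ (hβ v).1.ne']
      rw [hdg] at hxv ⊢
      have hq' : -(nb ends v β) = β v * q := hq
      linear_combination hxv + d * hq'
    · have : nb ends v Z = nb ends v z := by
        refine nb_congr fun u hu hpos => ?_
        by_cases hc : ch u
        · obtain ⟨j, hj, rfl⟩ := hc
          have := (hout v hv j hj hpos).2 hB
          subst this
          simp only [Z, if_pos (show ch (F 0) from ⟨0, Nat.zero_le _, rfl⟩)]
        · obtain ⟨e', he'⟩ := exists_edge_of_mult hpos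
          have huB : u ∉ B := fun h => hv ⟨0, Nat.zero_le _, (hcross u v e' he'.symm h hB).2.symm⟩
          simp only [Z, if_neg hc, if_neg huB]
      rw [this, if_neg hB]
      exact hxv

end Groth.L15.CompGrp
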