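import Groth.Prelude.Def_W4c2conddiscmodels
import Mathlib.Data.ZMod.Basic
import Mathlib.Data.Fintype.Pi
import Mathlib.Algebra.BigOperators.Ring.Finset

/-!
Spanning trees of a multigraph and choices, at each vertex but a root, of an edge towards the root.
-/

set_option autoImplicit false

noncomputable section

universe u

open Finset

namespace Groth.L15.CompGrp

open LabGraph

variable {V E : Type u} [Fintype V] [Fintype E] [DecidableEq V] [DecidableEq E]
  (ends : E → V × V)

/-- The other endpoint. -/
def oth (v : V) (e : E) : V := if (ends e).1 = v then (ends e).2 else (ends e).1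

/-- The possible choices at a vertex: nothing at the root, a non-loop edge elsewhere. -/
def opts (r v : V) : Finset (Option E) :=
  if v = r then {none}
  else (univ.filter fun e => ((ends e).1 = v ∨ (ends e).2 = v) ∧ (ends e).1 ≠ (ends e).2).map
    Function.Embedding.some

/-- The successor of a vertex. -/
def nxt (c : V → Option E) (v : V) : V :=
  match c v with
  | none => v
  | some e => oth ends v e

/-- Every vertex is eventually sent to the root. -/
def Reach (r : V) (c : V → Option E) : Prop := ∀ v, ∃ k : ℕ, (nxt ends c)^[k] v = r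

/-- The choice functions. -/
def Good (r : V) (c : V → Option E) : Prop := (∀ v, c v ∈ opts ends r v) ∧ Reach ends r c

/-- The chosen edges. -/
def imgE (c : V → Option E) : Finset E := univ.filter fun e => ∃ v, c v = some e

variable {ends} {r : V} {c : V → Option E}

theorem oth_spec {v : V} {e : E} (h : (ends e).1 = v ∨ (ends e).2 = v)
    (hl : (ends e).1 ≠ (ends e).2) :
    (ends e = (v, oth ends v e) ∨ ends e = (oth ends v e, v)) ∧ oth ends v e ≠ v := by
  rcases h with h | h
  · rw [oth, if_pos h]
    exact ⟨Or.inl (Prod.ext h rfl), fun h' => hl (h.trans h'.symm)⟩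
  · rw [oth, if_neg (fun h' => hl (h'.trans h.symm))]
    exact ⟨Or.inr (Prod.ext rfl h), fun h' => hl (h'.trans h.symm)⟩

theorem root_none (hc : Good ends r c) : c r = none := by
  have := hc.1 r
  rwa [opts, if_pos rfl, mem_singleton] at this

theorem exists_edge (hc : Good ends r c) {v : V} (hv : v ≠ r) :
    ∃ e, c v = some e ∧ ((ends e).1 = v ∨ (ends e).2 = v) ∧ (ends e).1 ≠ (ends e).2 := by
  have := hc.1 v
  rw [opts, if_neg hv, mem_map] at this
  obtain ⟨e, he, hev⟩ := this
  exact ⟨e, hev.symm, (mem_filter.1 he).2⟩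

theorem not_root_of_some (hc : Good ends r c) {v : V} {e : E} (h : c v = some e) : v ≠ r := by
  rintro rfl; rw [root_none hc] at h; simp at h

theorem edge_spec (hc : Good ends r c) {v : V} {e : E} (h : c v = some e) :
    (ends e = (v, nxt ends c v) ∨ ends e = (nxt ends c v, v)) ∧ nxt ends c v ≠ v := by
  obtain ⟨e', he', h1, h2⟩ := exists_edge hc (not_root_of_some hc h)
  obtain rfl : e' = e := Option.some_injective _ (he'.symm.trans h)
  rw [nxt, h]
  exact oth_spec h1 h2

theorem nxt_root (hc : Good ends r c) : nxt ends c r = r := by rw [nxt, root_none hc]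

open Classical in
/-- The distance to the root. -/
def dist (hc : Good ends r c) (v : V) : ℕ := Nat.find (hc.2 v)

theorem dist_root (hc : Good ends r c) : dist hc r = 0 := by
  classical
  exact (Nat.find_eq_zero _).2 rfl

theorem dist_nxt (hc : Good ends r c) {v : V} (hv : v ≠ r) :
    dist hc v = dist hc (nxt ends c v) + 1 := by
  classical
  unfold dist
  rw [Nat.find_eq_iff]
  refine ⟨by rw [Function.iterate_succ_apply]; exact Nat.find_spec (hc.2 (nxt ends c v)),
    fun n hn h => ?_⟩
  cases n with
  | zero => exact hv h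
  | succ n =>
    rw [Function.iterate_succ_apply] at h
    exact Nat.find_min (hc.2 (nxt ends c v)) (by omega) h

theorem dist_of_some (hc : Good ends r c) {v : V} {e : E} (h : c v = some e) :
    dist hc v = dist hc (nxt ends c v) + 1 := dist_nxt hc (not_root_of_some hc h)

/-- An edge chosen at two vertices is chosen at one. -/
theorem some_inj (hc : Good ends r c) {u v : V} {e : E} (hu : c u = some e) (hv : c v = some e) :
    u = v := by
  by_contra hne
  obtain ⟨h1, -⟩ := edge_spec hc hu
  obtain ⟨h2, -⟩ := edge_spec hc hv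
  have d1 := dist_of_some hc hu
  have d2 := dist_of_some hc hv
  rcases h1 with h1 | h1 <;> rcases h2 with h2 | h2 <;> rw [h1, Prod.mk.injEq] at h2 <;>
    obtain ⟨h3, h4⟩ := h2
  · exact hne h3
  · rw [h4] at d1; rw [← h3] at d2; omega
  · rw [h3] at d1; rw [← h4] at d2; omega
  · exact hne h4

theorem mem_imgE {e : E} : e ∈ imgE c ↔ ∃ v, c v = some e := by simp [imgE]

theorem reflTransGen_symm {α : Type u} {R : α → α → Prop} (hR : ∀ a b, R a b → R b a) {a b : α}
    (h : Relation.ReflTransGen R a b) : Relation.ReflTransGen R b a := by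
  induction h with
  | refl => exact .refl
  | tail _ hab ih => exact Relation.ReflTransGen.head (hR _ _ hab) ih

theorem connected_imgE (hc : Good ends r c) :
    Connected (fun e : imgE c => ends e.1) := by
  have hsymm : Std.Symm (Adj fun e : imgE c => ends e.1) :=
    ⟨fun a b h => by obtain ⟨e, he⟩ := h; exact ⟨e, he.symm⟩⟩
  have h : ∀ n, ∀ v, dist hc v = n →
      Relation.ReflTransGen (Adj fun e : imgE c => ends e.1) v r := by
    intro n
    induction n with
    | zero =>
      intro v hv
      by_cases hvr : v = r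
      · subst hvr; exact .refl
      · rw [dist_nxt hc hvr] at hv; omega
    | succ n ih =>
      intro v hv
      by_cases hvr : v = r
      · subst hvr; exact .refl
      · obtain ⟨e, he, -⟩ := exists_edge hc hvr
        rw [dist_nxt hc hvr] at hv
        exact Relation.ReflTransGen.head ⟨⟨e, mem_imgE.2 ⟨v, he⟩⟩, (edge_spec hc he).1⟩
          (ih _ (by omega))
  exact ⟨⟨r⟩, fun v w => (h _ v rfl).trans (reflTransGen_symm hsymm.symm (h _ w rfl))⟩

theorem isForest_imgE (hc : Good ends r c) :
    DualGr.IsForest (fun e : imgE c => ends e.1) := by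
  classical
  rintro C ⟨hne, heven, -⟩
  have hv' : ∀ e : imgE c, ∃ v, c v = some e.1 := fun e => mem_imgE.1 e.2
  choose w hw using hv'
  obtain ⟨e, he, hmax⟩ := exists_max_image C (fun e => dist hc (w e)) hne
  have h := heven (w e)
  have : endCount (fun e : imgE c => ends e.1) C (w e) = 1 := by
    rw [endCount, sum_eq_single e]
    · obtain ⟨h1, h2⟩ := edge_spec hc (hw e)
      rcases h1 with h1 | h1 <;> simp [h1, h2]
    · intro f hf hfe
      obtain ⟨h1, -⟩ := edge_spec hc (hw f)
      have hne' : w f ≠ w e := fun h' => hfe (Subtype.ext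
        (Option.some_injective _ ((hw f).symm.trans ((congrArg c h').trans (hw e)))))
      have hn : nxt ends c (w f) ≠ w e := fun h' => by
        have := dist_of_some hc (hw f)
        rw [h'] at this
        have := hmax f hf
        omega
      rcases h1 with h1 | h1 <;> simp [h1, hne', hn]
    · intro h'; exact absurd he h'
  rw [this] at h
  exact absurd h (by decide)

theorem isSpanningTree_imgE (hc : Good ends r c) : IsSpanningTree ends (imgE c) :=
  ⟨connected_imgE hc, isForest_imgE hc⟩

section Parity

variable (ends)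

/-- The boundary mod 2. -/
def par (x : E → ZMod 2) (v : V) : ZMod 2 :=
  ∑ e, x e * ((if (ends e).1 = v then 1 else 0) + (if (ends e).2 = v then 1 else 0))

theorem par_add (x y : E → ZMod 2) (v : V) : par ends (x + y) v = par ends x v + par ends y v := by
  simp [par, add_mul, sum_add_distrib]

theorem par_single (e : E) (v : V) : par ends (Pi.single e 1) v =
    (if (ends e).1 = v then 1 else 0) + (if (ends e).2 = v then 1 else 0) := by
  rw [par, sum_eq_single e]
  · simp
  · intro f _ hf; simp [hf]
  · simp

end Parity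

theorem path_exists (hc : Good ends r c) (v : V) : ∃ x : E → ZMod 2,
    (∀ e, x e ≠ 0 → e ∈ imgE c) ∧
      ∀ w, par ends x w = (if v = w then 1 else 0) + (if r = w then 1 else 0) := by
  suffices h : ∀ n v, dist hc v = n → ∃ x : E → ZMod 2, (∀ e, x e ≠ 0 → e ∈ imgE c) ∧
      ∀ w, par ends x w = (if v = w then 1 else 0) + (if r = w then 1 else 0) from h _ v rfl
  intro n
  induction n using Nat.strong_induction_on with
  | _ n ih =>
    intro v hv
    by_cases hvr : v = r
    · subst hvr
      refine ⟨0, fun e h => absurd rfl h, fun w => ?_⟩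
      simp only [par, Pi.zero_apply, zero_mul, sum_const_zero]
      exact (CharTwo.add_self_eq_zero _).symm
    · obtain ⟨e, he, -⟩ := exists_edge hc hvr
      obtain ⟨x, hx, hpar⟩ := ih (dist hc (nxt ends c v)) (by rw [← hv, dist_nxt hc hvr]; omega) _ rfl
      refine ⟨x + Pi.single e 1, fun f hf => ?_, fun w => ?_⟩
      · by_cases hfe : f = e
        · subst hfe; exact mem_imgE.2 ⟨v, he⟩
        · refine hx f ?_; simpa [hfe] using hf
      · rw [par_add, hpar, par_single]
        rcases (edge_spec hc he).1 with h | h <;> rw [h] <;> simp only <;>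
          split_ifs <;> simp_all [CharTwo.add_self_eq_zero]

/-- A forest containing all the chosen edges has no other edge. -/
theorem eq_imgE_of_forest (hc : Good ends r c) {T : Finset E} (hsub : imgE c ⊆ T)
    (hT : DualGr.IsForest (fun e : T => ends e.1)) : T = imgE c := by
  classical
  refine Subset.antisymm (fun e heT => ?_) hsub
  by_contra he
  obtain ⟨x, hx, hxp⟩ := path_exists hc (ends e).1
  obtain ⟨y, hy, hyp⟩ := path_exists hc (ends e).2
  let z : E → ZMod 2 := x + y + Pi.single e 1
  have hz : ∀ w, par ends z w = 0 := fun w => by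
    rw [par_add, par_add, hxp, hyp, par_single]
    split_ifs <;> decide
  let C₀ : Finset T := univ.filter fun f => z f.1 ≠ 0
  have hsupp : ∀ f, z f ≠ 0 → f ∈ T := fun f hf => by
    by_cases hfe : f = e
    · subst hfe; exact heT
    · refine hsub ?_
      by_contra hf'
      exact hf (by simp [z, hfe, not_imp_comm.1 (hx f) hf', not_imp_comm.1 (hy f) hf'])
  have hne : C₀.Nonempty := ⟨⟨e, heT⟩, mem_filter.2 ⟨mem_univ _, by
    simp [z, not_imp_comm.1 (hx e) he, not_imp_comm.1 (hy e) he]⟩⟩
  have heven : ∀ v, Even (endCount (fun f : T => ends f.1) C₀ v) := fun v => by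
    rw [← ZMod.natCast_eq_zero_iff_even, endCount, Nat.cast_sum]
    rw [← hz v, par]
    symm
    rw [← sum_filter_of_ne (p := fun f => z f ≠ 0) (fun f _ h h' => h (by rw [h', zero_mul]))]
    refine sum_bij' (fun f hf => ⟨f, hsupp f (mem_filter.1 hf).2⟩) (fun f _ => f.1)
      (fun f hf => mem_filter.2 ⟨mem_univ _, (mem_filter.1 hf).2⟩)
      (fun f hf => mem_filter.2 ⟨mem_univ _, (mem_filter.1 hf).2⟩) (fun _ _ => rfl) (fun _ _ => rfl)
      fun f hf => ?_
    have : z f = 1 := (show ∀ t : ZMod 2, t ≠ 0 → t = 1 by decide) _ (mem_filter.1 hf).2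
    simp [this]
  -- a minimal such set is a circuit
  obtain ⟨C, hC, hmin⟩ := exists_min_image
    (univ.filter fun C : Finset T => C.Nonempty ∧ ∀ v, Even (endCount (fun f : T => ends f.1) C v))
    card ⟨C₀, mem_filter.2 ⟨mem_univ _, hne, heven⟩⟩
  refine hT C ⟨(mem_filter.1 hC).2.1, (mem_filter.1 hC).2.2, fun C' hlt hne' => ?_⟩
  by_contra hall
  push Not at hall
  have := hmin C' (mem_filter.2 ⟨mem_univ _, hne', hall⟩)
  have := card_lt_card hlt
  omega

theorem good_unique {c' : V → Option E} (hc : Good ends r c) (hc' : Good ends r c')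
    (h : imgE c = imgE c') : c = c' := by
  classical
  funext v
  by_contra hv
  have hne : (univ.filter fun v => c v ≠ c' v).Nonempty := ⟨v, mem_filter.2 ⟨mem_univ _, hv⟩⟩
  obtain ⟨v, hv, hmax⟩ := exists_max_image _ (dist hc) hne
  replace hv := (mem_filter.1 hv).2
  have hvr : v ≠ r := fun hvr => hv (by rw [hvr, root_none hc, root_none hc'])
  obtain ⟨e, he, hev, -⟩ := exists_edge hc' hvr
  obtain ⟨u, hu⟩ := mem_imgE.1 (h ▸ mem_imgE.2 ⟨v, he⟩ : e ∈ imgE c)
  have huv : u ≠ v := fun huv => hv (by rw [← huv, hu, huv, he])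
  have hn : nxt ends c u = v := by
    obtain ⟨h1, -⟩ := edge_spec hc hu
    rcases h1 with h1 | h1 <;> rw [h1] at hev <;> rcases hev with h2 | h2
    · exact absurd h2 huv
    · exact h2
    · exact h2
    · exact absurd h2 huv
  have hu' : c u ≠ c' u := fun h' => huv (some_inj hc' (h'.symm.trans hu) he)
  have := hmax u (mem_filter.2 ⟨mem_univ _, hu'⟩)
  have := dist_of_some hc hu
  rw [hn] at this
  omega

/-- A spanning tree comes from a choice function. -/
theorem exists_good_of_connected (r : V) {T : Finset E}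
    (hT : Connected (fun e : T => ends e.1)) : ∃ c, Good ends r c ∧ imgE c ⊆ T := by
  classical
  -- the set of vertices within `n` steps of the root
  let W : ℕ → Set V := fun n => Nat.rec (motive := fun _ => Set V) ({r} : Set V)
    (fun _ (S : Set V) => S ∪ {v | ∃ e ∈ T, ∃ u ∈ S, ends e = (v, u) ∨ ends e = (u, v)}) n
  have hW : ∀ v, ∃ n, v ∈ W n := by
    intro v
    have h := hT.2 r v
    induction h with
    | refl => exact ⟨0, rfl⟩
    | tail _ hab ih =>
      obtain ⟨n, hn⟩ := ih
      obtain ⟨e, he⟩ := hab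
      exact ⟨n + 1, Or.inr ⟨e.1, e.2, _, hn, he.symm⟩⟩
  let d : V → ℕ := fun v => Nat.find (hW v)
  have hstep : ∀ v, v ≠ r → ∃ e ∈ T, ∃ u, d u < d v ∧ (ends e = (v, u) ∨ ends e = (u, v)) := by
    intro v hv
    obtain ⟨n, hn⟩ : ∃ n, d v = n + 1 := by
      rcases hd : d v with _ | n
      · have h0 : v ∈ W (d v) := Nat.find_spec (hW v)
        rw [hd] at h0
        exact absurd h0 hv
      · exact ⟨n, rfl⟩
    have h1 : v ∈ W (d v) := Nat.find_spec (hW v)
    rw [hn] at h1
    rcases h1 with h1 | ⟨e, he, u, hu, heu⟩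
    · exact absurd h1 (Nat.find_min (hW v) (show n < d v by omega))
    · exact ⟨e, he, u, lt_of_le_of_lt (Nat.find_le hu) (by omega), heu⟩
  choose e heT u hlt heu using hstep
  let c : V → Option E := fun v => if hv : v = r then none else some (e v hv)
  have hoth : ∀ v (hv : v ≠ r), nxt ends c v = u v hv := by
    intro v hv
    simp only [nxt, c, dif_neg hv, oth]
    have hne : u v hv ≠ v := fun h => by have := hlt v hv; rw [h] at this; omega
    rcases heu v hv with h | h <;> simp [h, hne]
  refine ⟨c, ⟨fun v => ?_, fun v => ?_⟩, fun f hf => ?_⟩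
  · rw [opts]
    split_ifs with hv
    · simp [c, hv]
    · refine mem_map.2 ⟨e v hv, mem_filter.2 ⟨mem_univ _, ?_⟩, by simp [c, hv]⟩
      have hne : u v hv ≠ v := fun h => by have := hlt v hv; rw [h] at this; omega
      rcases heu v hv with h | h <;> simp [h, hne, Ne.symm hne]
  · suffices h : ∀ n v, d v = n → ∃ k : ℕ, (nxt ends c)^[k] v = r from h _ v rfl
    intro n
    induction n using Nat.strong_induction_on with
    | _ n ih =>
      intro v hv
      by_cases hvr : v = r
      · exact ⟨0, hvr⟩
      · obtain ⟨k, hk⟩ := ih _ (hv ▸ hlt v hvr) (u v hvr) rfl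
        exact ⟨k + 1, by rw [Function.iterate_succ_apply, hoth v hvr, hk]⟩
  · obtain ⟨v, hv⟩ := mem_imgE.1 hf
    simp only [c] at hv
    split_ifs at hv with h
    exact Option.some_injective _ hv ▸ heT v h

/-- The degree of a vertex in the tree is its number of neighbours. -/
theorem nbrCount_imgE (hc : Good ends r c) (v : V) :
    nbrCount ends (imgE c) v = endCount ends (imgE c) v := by
  classical
  have h : endCount ends (imgE c) v =
      ((imgE c).filter fun e => (ends e).1 = v ∨ (ends e).2 = v).card := by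
    rw [endCount, card_filter]
    refine sum_congr rfl fun e he => ?_
    obtain ⟨u, hu⟩ := mem_imgE.1 he
    obtain ⟨h1, h2⟩ := edge_spec hc hu
    rcases h1 with h1 | h1 <;> rw [h1] <;> simp only <;> split_ifs <;> simp_all
  rw [h, nbrCount]
  symm
  refine card_bij (fun e _ => oth ends v e) ?_ ?_ ?_
  · intro e he
    obtain ⟨he1, he2⟩ := mem_filter.1 he
    obtain ⟨u, hu⟩ := mem_imgE.1 he1
    obtain ⟨h1, h2⟩ := edge_spec hc hu
    have hl : (ends e).1 ≠ (ends e).2 := by
      rcases h1 with h1 | h1 <;> rw [h1] <;> simp [h2, Ne.symm h2]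
    exact mem_filter.2 ⟨mem_univ _, (oth_spec he2 hl).2, e, he1, (oth_spec he2 hl).1⟩
  · intro e he f hf heq
    obtain ⟨he1, he2⟩ := mem_filter.1 he
    obtain ⟨hf1, hf2⟩ := mem_filter.1 hf
    obtain ⟨a, ha⟩ := mem_imgE.1 he1
    obtain ⟨b, hb⟩ := mem_imgE.1 hf1
    by_contra hne
    have hab : a ≠ b := fun h => hne (Option.some_injective _ (ha.symm.trans (h ▸ hb)))
    have d1 := dist_of_some hc ha
    have d2 := dist_of_some hc hb
    obtain ⟨h1, hn1⟩ := edge_spec hc ha
    obtain ⟨h2, hn2⟩ := edge_spec hc hb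
    have key : ∀ {g : E} {a : V}, ((ends g).1 = v ∨ (ends g).2 = v) →
        (ends g = (a, nxt ends c a) ∨ ends g = (nxt ends c a, a)) → nxt ends c a ≠ a →
        (a = v ∧ nxt ends c a = oth ends v g) ∨ (a = oth ends v g ∧ nxt ends c a = v) := by
      intro g a hg hga hna
      rcases hga with h | h <;> rw [h] at hg <;> simp only [oth, h] <;>
        rcases hg with rfl | rfl <;> simp [hna, Ne.symm hna]
    rcases key he2 h1 hn1 with ⟨r1, r2⟩ | ⟨r1, r2⟩ <;>
      rcases key hf2 h2 hn2 with ⟨s1, s2⟩ | ⟨s1, s2⟩
    · exact hab (r1.trans s1.symm)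
    · rw [r2, heq, ← s1] at d1; rw [s2, ← r1] at d2; omega
    · rw [r2, ← s1] at d1; rw [s2, ← heq, ← r1] at d2; omega
    · exact hab (r1.trans (heq.trans s1.symm))
  · intro w hw
    obtain ⟨hwv, e, he, hew⟩ := (mem_filter.1 hw).2
    refine ⟨e, mem_filter.2 ⟨he, ?_⟩, ?_⟩
    · rcases hew with h | h <;> simp [h]
    · rcases hew with h | h <;> simp [oth, h, hwv]

end Groth.L15.CompGrp
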