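import Groth.Agent.L15.CompGrp.Contract
import Groth.Agent.L15.CompGrp.Tree
import Mathlib.LinearAlgebra.Matrix.Determinant.Basic
import Mathlib.LinearAlgebra.Matrix.Adjugate
import Mathlib.LinearAlgebra.Matrix.ToLinearEquiv
import Mathlib.LinearAlgebra.FreeModule.Finite.CardQuotient
import Mathlib.RingTheory.Int.Basic
import Mathlib.Algebra.GCDMonoid.Finset
import Mathlib.Tactic.FieldSimp

/-!
The weighted matrix-tree theorem and the order of the component group.
-/

set_option autoImplicit false

noncomputable section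

universe u

open Finset Matrix

namespace Groth.L15.CompGrp

open LabGraph

variable {V E : Type u} [Fintype V] [Fintype E] [DecidableEq V] [DecidableEq E]
  {ends : E → V × V} {β : V → ℤ}

theorem α_mulVec_β (hβ : IsMultFn ends β) : mfMatrix ends β *ᵥ β = 0 := by
  funext v
  rw [mulVec_eq, mf_diag, Int.ediv_mul_cancel (show β v ∣ -(nb ends v β) from dvd_neg.2 (hβ v).2), neg_add_cancel]
  rfl

theorem α_symm : (mfMatrix ends β)ᵀ = mfMatrix ends β := by
  ext v w
  rw [Matrix.transpose_apply, mfMatrix, mfMatrix]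
  by_cases h : v = w
  · subst h; rfl
  · rw [if_neg (Ne.symm h), if_neg h, mult_comm]

/-- The weight of an edge. -/
def wt (ends : E → V × V) (β : V → ℤ) (e : E) : ℤ := β (ends e).1 * β (ends e).2

/-- A row of an expanded Laplacian. -/
def rowOf (ends : E → V × V) (v : V) : Option E → V → ℤ
  | none => Pi.single v 1
  | some e => Pi.single v 1 - Pi.single (oth ends v e) 1

/-- The weight of a choice. -/
def owt (ends : E → V × V) (β : V → ℤ) : Option E → ℤ
  | none => 1
  | some e => wt ends β e

/-- The weighted Laplacian. -/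
def lap (ends : E → V × V) (β : V → ℤ) : Matrix V V ℤ :=
  -(diagonal β * mfMatrix ends β * diagonal β)

theorem lap_apply (v w : V) : lap ends β v w = -(β v * mfMatrix ends β v w * β w) := by
  rw [lap, Matrix.neg_apply, mul_diagonal, diagonal_mul]

theorem lap_row (hβ : IsMultFn ends β) {r v : V} (hv : v ≠ r) (w : V) :
    lap ends β v w = ∑ o ∈ opts ends r v, owt ends β o * rowOf ends v o w := by
  rw [opts, if_neg hv, sum_map]
  let I := univ.filter fun e => ((ends e).1 = v ∨ (ends e).2 = v) ∧ (ends e).1 ≠ (ends e).2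
  change _ = ∑ e ∈ I, wt ends β e * ((Pi.single v 1 - Pi.single (oth ends v e) 1 : V → ℤ) w)
  -- sums over edges at `v` are weighted neighbour sums
  have key : ∀ g : V → ℤ, ∑ e ∈ I, wt ends β e * g (oth ends v e) =
      β v * nb ends v (fun u => β u * g u) := by
    intro g
    rw [nb_eq_sum_edges, mul_sum, sum_filter]
    refine sum_congr rfl fun e _ => ?_
    rcases h : ends e with ⟨a, b⟩
    by_cases ha : a = v <;> by_cases hb : b = v <;>
      simp [wt, oth, h, ha, hb, Ne.symm] <;> first
      | ring
      | (rw [if_pos (Ne.symm hb)]; ring)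
      | (rw [if_pos ha]; ring)
  have h1 : ∑ e ∈ I, wt ends β e = β v * nb ends v β := by
    have := key fun _ => 1
    simpa using this
  rw [lap_apply]
  by_cases hw : w = v
  · subst hw
    have h2 : ∀ e ∈ I, wt ends β e * ((Pi.single w 1 - Pi.single (oth ends w e) 1 : V → ℤ) w) =
        wt ends β e := by
      intro e he
      have := (oth_spec (mem_filter.1 he).2.1 (mem_filter.1 he).2.2).2
      simp [this.symm]
    rw [sum_congr rfl h2, h1, mf_diag, mul_assoc,
      Int.ediv_mul_cancel (show β w ∣ -(nb ends w β) from dvd_neg.2 (hβ w).2)]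
    ring
  · have h2 : ∀ e ∈ I, wt ends β e * ((Pi.single v 1 - Pi.single (oth ends v e) 1 : V → ℤ) w) =
        -(wt ends β e * if oth ends v e = w then 1 else 0) := by
      intro e _
      by_cases ho : oth ends v e = w
      · subst ho; simp [hw]
      · simp [hw, ho, Ne.symm ho]
    rw [sum_congr rfl h2, sum_neg_distrib, key fun u => if u = w then 1 else 0]
    have h3 : nb ends v (fun u => β u * if u = w then 1 else 0) = β w * mfMatrix ends β v w := by
      rw [nb, sum_eq_single w]
      · simp [mfMatrix, Ne.symm hw]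
      · intro u _ hu; simp [hu]
      · intro h; exact absurd (mem_erase.2 ⟨hw, mem_univ _⟩) h
    rw [h3]; ring

theorem det_rows_good {r : V} {c : V → Option E} (hc : Good ends r c) :
    Matrix.det (Matrix.of fun v => rowOf ends v (c v)) = 1 := by
  classical
  rw [← det_transpose, det_apply', sum_eq_single (1 : Equiv.Perm V)]
  · rw [Equiv.Perm.sign_one, Units.val_one, Int.cast_one, one_mul]
    refine prod_eq_one fun i _ => ?_
    simp only [Matrix.transpose_apply, Matrix.of_apply, Equiv.Perm.one_apply]
    rcases hci : c i with _ | e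
    · simp [rowOf]
    · obtain ⟨-, h⟩ := edge_spec hc hci
      rw [nxt, hci] at h
      simp [rowOf, Ne.symm h]
  · intro σ _ hσ
    have hne : (univ.filter fun v => σ v ≠ v).Nonempty := by
      by_contra h
      rw [not_nonempty_iff_eq_empty, filter_eq_empty_iff] at h
      exact hσ (Equiv.ext fun v => not_not.1 (h (mem_univ v)))
    obtain ⟨i, hi, hmin⟩ := exists_min_image _ (dist hc) hne
    replace hi := (mem_filter.1 hi).2
    refine mul_eq_zero.2 (Or.inr (prod_eq_zero (mem_univ i) ?_))
    simp only [Matrix.transpose_apply, Matrix.of_apply]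
    by_contra hnz
    have hs : σ i = nxt ends c i ∧ i ≠ r := by
      rcases hci : c i with _ | e
      · rw [hci] at hnz; simp [rowOf, hi] at hnz
      · refine ⟨?_, not_root_of_some hc hci⟩
        rw [hci] at hnz
        by_contra h
        rw [nxt, hci] at h
        simp [rowOf, hi, h] at hnz
    have h1 := hmin (σ i) (mem_filter.2 ⟨mem_univ _, fun h => hi (σ.injective h)⟩)
    have h2 := dist_nxt hc hs.2
    rw [← hs.1] at h2
    omega
  · simp

theorem det_rows_bad {r : V} {c : V → Option E} (hc : ∀ v, c v ∈ opts ends r v)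
    (hbad : ¬ Reach ends r c) : Matrix.det (Matrix.of fun v => rowOf ends v (c v)) = 0 := by
  classical
  let P : V → Prop := fun v => ∃ k : ℕ, (nxt ends c)^[k] v = r
  let x : V → ℤ := fun v => if P v then 0 else 1
  refine exists_mulVec_eq_zero_iff.1 ⟨x, ?_, ?_⟩
  · rw [Reach, not_forall] at hbad
    obtain ⟨v, hv⟩ := hbad
    intro h
    have := congrFun h v
    simp [x, P, hv] at this
  · funext v
    rw [Pi.zero_apply, Matrix.mulVec]
    change rowOf ends v (c v) ⬝ᵥ x = 0
    rcases hcv : c v with _ | e
    · have hvr : v = r := by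
        by_contra h
        have := hc v
        rw [hcv, opts, if_neg h] at this
        simp at this
      subst hvr
      simp [rowOf, x, show P v from ⟨0, rfl⟩]
    · have hvr : v ≠ r := by
        intro h
        have := hc v
        rw [hcv, opts, if_pos h] at this
        simp at this
      have hn : oth ends v e = nxt ends c v := by rw [nxt, hcv]
      have hP : P v ↔ P (nxt ends c v) := by
        constructor
        · rintro ⟨_ | k, hk⟩
          · exact absurd hk hvr
          · exact ⟨k, by rwa [Function.iterate_succ_apply] at hk⟩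
        · rintro ⟨k, hk⟩
          exact ⟨k + 1, by rwa [Function.iterate_succ_apply]⟩
      simp only [rowOf, sub_dotProduct, single_dotProduct, one_mul, hn, x, hP, sub_self]

/-- The weighted count of spanning trees. -/
def tau (ends : E → V × V) (β : V → ℤ) : ℤ :=
  ∑ T ∈ (univ : Finset E).powerset.filter (fun T => @decide (IsSpanningTree ends T) (Classical.dec _) = true),
    ∏ e ∈ T, wt ends β e

theorem adjugate_lap (hβ : IsMultFn ends β) (r : V) : (lap ends β).adjugate r r = tau ends β := by
  classical
  rw [adjugate_apply]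
  have hrow : (lap ends β).updateRow r (Pi.single r 1) =
      Matrix.of (fun v => ∑ o ∈ opts ends r v, owt ends β o • rowOf ends v o) := by
    ext v w
    rw [Matrix.of_apply, Finset.sum_apply]
    by_cases hv : v = r
    · subst hv
      simp [opts, owt, rowOf]
    · rw [updateRow_ne hv, lap_row hβ hv]
      simp
  rw [hrow]
  change (Matrix.detRowAlternating : (V → ℤ) [⋀^V]→ₗ[ℤ] ℤ).toMultilinearMap
    (fun v => ∑ o ∈ opts ends r v, owt ends β o • rowOf ends v o) = _
  rw [MultilinearMap.map_sum_finset]
  have hterm : ∀ c : V → Option E, (Matrix.detRowAlternating : (V → ℤ) [⋀^V]→ₗ[ℤ] ℤ).toMultilinearMap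
      (fun v => owt ends β (c v) • rowOf ends v (c v)) =
      (∏ v, owt ends β (c v)) * Matrix.det (Matrix.of fun v => rowOf ends v (c v)) := fun c => by
    rw [MultilinearMap.map_smul_univ]; rfl
  simp only [hterm]
  rw [← sum_filter_of_ne (p := fun c => Good ends r c)]
  swap
  · intro c hc hne
    refine ⟨Fintype.mem_piFinset.1 hc, ?_⟩
    by_contra h
    rw [det_rows_bad (Fintype.mem_piFinset.1 hc) h, mul_zero] at hne
    exact hne rfl
  rw [tau]
  refine sum_bij (fun c _ => imgE c) ?_ ?_ ?_ ?_
  · intro c hc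
    exact mem_filter.2 ⟨mem_powerset.2 (subset_univ _),
      decide_eq_true (isSpanningTree_imgE (mem_filter.1 hc).2)⟩
  · intro c hc c' hc' h
    exact good_unique (mem_filter.1 hc).2 (mem_filter.1 hc').2 h
  · intro T hT
    have hT' : IsSpanningTree ends T := of_decide_eq_true (mem_filter.1 hT).2
    obtain ⟨c, hc, hsub⟩ := exists_good_of_connected r hT'.1
    exact ⟨c, mem_filter.2 ⟨Fintype.mem_piFinset.2 hc.1, hc⟩,
      (eq_imgE_of_forest hc hsub hT'.2).symm⟩
  · intro c hc
    have hg := (mem_filter.1 hc).2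
    rw [det_rows_good hg, mul_one, ← prod_erase (univ : Finset V) (a := r) (by rw [root_none hg]; rfl)]
    symm
    refine prod_bij' (fun e he => (mem_imgE.1 he).choose) (fun v hv => (exists_edge hg (ne_of_mem_erase hv)).choose)
      ?_ ?_ ?_ ?_ ?_
    · intro e he
      exact mem_erase.2 ⟨not_root_of_some hg (mem_imgE.1 he).choose_spec, mem_univ _⟩
    · intro v hv
      exact mem_imgE.2 ⟨v, (exists_edge hg (ne_of_mem_erase hv)).choose_spec.1⟩
    · intro e he
      refine Option.some_injective _ ?_
      exact (exists_edge hg (not_root_of_some hg (mem_imgE.1 he).choose_spec)).choose_spec.1.symm.trans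
        (mem_imgE.1 he).choose_spec
    · intro v hv
      exact some_inj hg (mem_imgE.1 (mem_imgE.2 ⟨v, (exists_edge hg (ne_of_mem_erase hv)).choose_spec.1⟩)).choose_spec (exists_edge hg (ne_of_mem_erase hv)).choose_spec.1
    · intro e he
      rw [(mem_imgE.1 he).choose_spec]
      rfl

theorem tau_pos (hβ : IsMultFn ends β) (hG : Connected ends) : 0 < tau ends β := by
  classical
  obtain ⟨r⟩ := hG.1
  have hG' : Connected (fun e : (univ : Finset E) => ends e.1) :=
    ⟨hG.1, fun v w => by
      induction hG.2 v w with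
      | refl => exact .refl
      | tail _ hab ih =>
        obtain ⟨e, he⟩ := hab
        exact ih.tail ⟨⟨e, mem_univ _⟩, he⟩⟩
  obtain ⟨c, hc, -⟩ := exists_good_of_connected r hG'
  refine sum_pos (fun T _ => prod_pos fun e _ => mul_pos (hβ _).1 (hβ _).1)
    ⟨imgE c, mem_filter.2 ⟨mem_powerset.2 (subset_univ _), decide_eq_true (isSpanningTree_imgE hc)⟩⟩

/-- The kernel of the matrix is spanned by `β`. -/
theorem kernel_prop (hβ : IsMultFn ends β) (hG : Connected ends) {y : V → ℤ}
    (hy : mfMatrix ends β *ᵥ y = 0) (v w : V) : y v * β w = y w * β v := by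
  classical
  haveI := hG.1
  obtain ⟨m, -, hmax⟩ := exists_max_image (univ : Finset V) (fun v => (y v : ℚ) / β v) univ_nonempty
  suffices h : ∀ u, y u * β m = y m * β u by
    have hm := (hβ m).1
    refine mul_left_cancel₀ hm.ne' ?_
    linear_combination β w * h v - β v * h w
  intro u
  have hmax' : ∀ a, y a * β m ≤ y m * β a := fun a => by
    have := hmax a (mem_univ _)
    rw [div_le_div_iff₀ (by exact_mod_cast (hβ a).1) (by exact_mod_cast (hβ m).1)] at this
    exact_mod_cast this
  induction hG.2 m u with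
  | refl => rfl
  | @tail a b _ hab ih =>
    by_cases hba : b = a
    · rw [hba]; exact ih
    obtain ⟨e, he⟩ := hab
    have h1 := congrFun hy a
    rw [mulVec_eq, Pi.zero_apply] at h1
    have h2 := congrFun (α_mulVec_β hβ) a
    rw [mulVec_eq, Pi.zero_apply] at h2
    have hzero : ∑ x ∈ univ.erase a, (y m * β x - y x * β m) * (edgeMult ends a x : ℤ) = 0 := by
      have e1 : ∑ x ∈ univ.erase a, (y m * β x - y x * β m) * (edgeMult ends a x : ℤ) =
          y m * nb ends a β - β m * nb ends a y := by
        simp only [nb, mul_sum, ← sum_sub_distrib]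
        exact sum_congr rfl fun x _ => by ring
      rw [e1]
      linear_combination y m * h2 - β m * h1 + mfMatrix ends β a a * ih
    have h3 := (sum_eq_zero_iff_of_nonneg (fun x _ => mul_nonneg (sub_nonneg.2 (hmax' x))
      (Int.natCast_nonneg _))).1 hzero b (mem_erase.2 ⟨hba, mem_univ _⟩)
    rcases mul_eq_zero.1 h3 with h | h
    · linarith
    · have := mult_pos (ends := ends) he
      omega

theorem adjugate_α (hβ : IsMultFn ends β) (hG : Connected ends) (r i j : V) :
    (mfMatrix ends β).adjugate i j * (β r * β r) =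
      (mfMatrix ends β).adjugate r r * (β i * β j) := by
  set A := mfMatrix ends β with hA
  haveI := hG.1
  have hdet : A.det = 0 := exists_mulVec_eq_zero_iff.1 ⟨β, fun h => by
    have := (hβ r).1
    rw [h] at this
    simp at this, α_mulVec_β hβ⟩
  have hcol : ∀ j i i', A.adjugate i j * β i' = A.adjugate i' j * β i := fun j i i' => by
    refine kernel_prop hβ hG (y := fun i => A.adjugate i j) ?_ i i'
    funext v
    have := congrFun (congrFun (mul_adjugate A) v) j
    rw [hdet, zero_smul] at this
    exact this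
  have hsym : ∀ i j, A.adjugate i j = A.adjugate j i := fun i j => by
    have h := congrFun (congrFun (adjugate_transpose A) j) i
    rw [hA, α_symm] at h
    exact h
  calc A.adjugate i j * (β r * β r) = A.adjugate i j * β r * β r := by ring
    _ = A.adjugate r j * β i * β r := by rw [hcol j i r]
    _ = A.adjugate j r * β r * β i := by rw [hsym r j]; ring
    _ = A.adjugate r r * β j * β i := by rw [hcol r j r]
    _ = _ := by ring

theorem abs_adjugate_α (hβ : IsMultFn ends β) (r : V) :
    |(mfMatrix ends β).adjugate r r| * (∏ v ∈ univ.erase r, β v) ^ 2 = |tau ends β| := by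
  rw [← adjugate_lap hβ r, lap, ← neg_one_smul ℤ (diagonal β * mfMatrix ends β * diagonal β),
    adjugate_smul, adjugate_mul_distrib, adjugate_mul_distrib, Matrix.smul_apply, smul_eq_mul,
    abs_mul, abs_pow, abs_neg, abs_one, one_pow, one_mul, adjugate_diagonal, diagonal_mul,
    mul_diagonal, abs_mul, abs_mul,
    abs_of_nonneg (prod_nonneg fun v _ => (hβ v).1.le)]
  ring

/-- The order of the component group. -/
theorem card_compGrp (hβ : IsMultFn ends β) (hG : Connected ends) :
    (Nat.card (CompGrp ends β) : ℤ) * (∏ v, β v) ^ 2 = univ.gcd β ^ 2 * tau ends β := by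
  classical
  obtain ⟨r⟩ := hG.1
  set g := univ.gcd β with hg'
  obtain ⟨b, hb, hbgcd⟩ := Finset.extract_gcd β (univ_nonempty_iff.2 ⟨r⟩)
  replace hb : ∀ v, β v = g * b v := fun v => hb v (mem_univ v)
  obtain ⟨a, ha⟩ := Finset.gcd_eq_sum_mul (R := ℤ) (univ : Finset V) b
  rw [hbgcd] at ha
  have hg : g ≠ 0 := fun h => by have := (hβ r).1; rw [hb, h, zero_mul] at this; exact lt_irrefl _ this
  have hab : a ⬝ᵥ b = 1 := by
    rw [ha, dotProduct]
    exact sum_congr rfl fun x _ => mul_comm _ _
  set A := mfMatrix ends β with hA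
  have hAb : A *ᵥ b = 0 := by
    have h := α_mulVec_β (ends := ends) hβ
    rw [show β = g • b from funext hb, mulVec_smul, smul_eq_zero] at h
    rw [hA, show β = g • b from funext hb]
    exact h.resolve_left hg
  let A' : Matrix V V ℤ := A + vecMulVec a b
  have hA'x : ∀ x, A' *ᵥ x = A *ᵥ x + (b ⬝ᵥ x) • a := fun x => by
    rw [add_mulVec, vecMulVec_mulVec, op_smul_eq_smul]
  -- the determinant
  have hdetA' : A'.det * (β r * β r) = (b ⬝ᵥ b) * (A.adjugate r r * g ^ 2) := by
    have h1 : (A'.updateCol r (fun k => ∑ i, b i • A' k i)).det = b r * A'.det := by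
      rw [det_updateCol_sum]; rfl
    have h2 : (fun k => ∑ i, b i • A' k i) = (b ⬝ᵥ b) • a := by
      funext k
      have := congrFun (hA'x b) k
      rw [hAb, zero_add] at this
      rw [← this, Matrix.mulVec, dotProduct]
      exact sum_congr rfl fun i _ => by rw [smul_eq_mul, mul_comm]
    rw [h2, det_updateCol_smul] at h1
    let cr : V → ℤ := Function.update b r 1
    have hN : ((1 : Matrix V V ℤ).updateRow r cr).det = 1 := by
      have := det_updateRow_sum (1 : Matrix V V ℤ) r cr
      rw [det_one, smul_eq_mul, mul_one] at this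
      have e : (∑ i, cr i • (1 : Matrix V V ℤ) i) = cr := by
        funext k
        simp [Finset.sum_apply, Matrix.one_apply]
      rw [e] at this
      rw [this]
      simp [cr]
    have h3 : A'.updateCol r a = A.updateCol r a * (1 : Matrix V V ℤ).updateRow r cr := by
      ext k j
      rw [Matrix.mul_apply]
      by_cases hj : j = r
      · subst hj
        rw [updateCol_self, sum_eq_single j]
        · simp [cr]
        · intro i _ hi
          rw [updateRow_ne hi, Matrix.one_apply_ne hi, mul_zero]
        · simp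
      · rw [updateCol_ne hj]
        symm
        rw [sum_eq_add j r hj]
        · rw [updateCol_ne hj, updateRow_ne hj, Matrix.one_apply_eq, mul_one, updateCol_self,
            updateRow_self]
          simp [A', cr, hj, vecMulVec_apply]
        · intro i _ hi
          rw [updateRow_ne hi.2, Matrix.one_apply_ne hi.1, mul_zero]
        · simp
        · simp
    rw [h3, det_mul, hN, mul_one, ← cramer_apply, cramer_eq_adjugate_mulVec] at h1
    have h4 : (A.adjugate *ᵥ a) r * b r = A.adjugate r r := by
      have e : ∀ j, A.adjugate r j * b r = A.adjugate r r * b j := fun j => by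
        have h := adjugate_α hβ hG r r j
        rw [hb r, hb j] at h
        refine mul_left_cancel₀ (mul_ne_zero (mul_ne_zero hg hg) (show b r ≠ 0 from fun h0 => by
          have := (hβ r).1; rw [hb, h0, mul_zero] at this; exact lt_irrefl _ this)) ?_
        linear_combination h
      rw [Matrix.mulVec, dotProduct, sum_mul]
      calc ∑ j, A.adjugate r j * a j * b r = ∑ j, A.adjugate r r * (a j * b j) :=
            sum_congr rfl fun j _ => by linear_combination a j * e j
        _ = A.adjugate r r := by rw [← mul_sum, ← dotProduct, hab, mul_one]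
    rw [hb r]
    linear_combination (b ⬝ᵥ b) * g ^ 2 * h4 - g ^ 2 * b r * h1
  have hτ := tau_pos hβ hG
  have hadj := abs_adjugate_α (ends := ends) hβ r
  have hbb : 0 < b ⬝ᵥ b := by
    refine sum_pos (fun v _ => ?_) (univ_nonempty_iff.2 ⟨r⟩)
    exact mul_self_pos.2 fun h => by
      have := (hβ v).1; rw [hb, h, mul_zero] at this; exact lt_irrefl _ this
  have hadj0 : A.adjugate r r ≠ 0 := fun h => by
    rw [h, abs_zero, zero_mul, abs_of_pos hτ] at hadj
    exact hτ.ne hadj
  have hdet0 : A'.det ≠ 0 := fun h => by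
    rw [h, zero_mul, eq_comm] at hdetA'
    exact mul_ne_zero hbb.ne' (mul_ne_zero hadj0 (pow_ne_zero 2 hg)) hdetA'
  -- the index
  have hinj : Function.Injective (toLin' A') := by
    rw [← LinearMap.ker_eq_bot, LinearMap.ker_eq_bot']
    intro x hx
    by_contra hx0
    exact hdet0 (exists_mulVec_eq_zero_iff.1 ⟨x, hx0, hx⟩)
  have hcard : (A'.det.natAbs : ℕ) = Nat.card ((V → ℤ) ⧸ LinearMap.range (toLin' A')) := by
    rw [← Submodule.natAbs_det_equiv _ (LinearEquiv.ofInjective (toLin' A') hinj).toAddEquiv]
    congr 1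
    rw [← LinearMap.det_toLin' A']
    rfl
  -- two quotients
  let W := LinearMap.ker (betaHom β)
  have hW : ∀ x, x ∈ W ↔ b ⬝ᵥ x = 0 := fun x => by
    have : betaHom β x = g * (b ⬝ᵥ x) := by
      simp only [betaHom, Fintype.linearCombination_apply, smul_eq_mul, dotProduct, mul_sum]
      exact sum_congr rfl fun v _ => by rw [hb]; ring
    rw [LinearMap.mem_ker, this, mul_eq_zero, or_iff_right hg]
  let K : Submodule ℤ W := (LinearMap.range A.mulVecLin).comap W.subtype
  let bl : (V → ℤ) →ₗ[ℤ] ℤ :=
    { toFun := fun x => b ⬝ᵥ x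
      map_add' := fun x y => dotProduct_add _ _ _
      map_smul' := fun c x => dotProduct_smul _ _ _ }
  have hbl : ∀ x, bl x = b ⬝ᵥ x := fun x => rfl
  have hba : bl a = 1 := by rw [hbl, dotProduct_comm, hab]
  have hblA : ∀ z, bl (A *ᵥ z) = 0 := fun z => by
    rw [hbl, dotProduct_mulVec, ← mulVec_transpose, hA, α_symm, ← hA, hAb, zero_dotProduct]
  have hWbl : ∀ x, x ∈ W ↔ bl x = 0 := hW
  let Aw : (V → ℤ) →ₗ[ℤ] W :=
    LinearMap.codRestrict W A.mulVecLin fun z => (hWbl _).2 (by rw [mulVecLin_apply]; exact hblA z)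
  let R : Submodule ℤ W := W.map Aw
  let Q : (V → ℤ) →ₗ[ℤ] W :=
    LinearMap.codRestrict W (LinearMap.id - bl.smulRight (a + A *ᵥ a)) fun x => by
      rw [hWbl, LinearMap.sub_apply, LinearMap.id_apply, LinearMap.smulRight_apply, map_sub, map_smul,
        map_add, hba, hblA, add_zero, smul_eq_mul, mul_one, sub_self]
  have hQW : ∀ w : W, Q w = w := fun w => Subtype.ext (by
    change (w : V → ℤ) - bl w • (a + A *ᵥ a) = w
    rw [(hWbl _).1 w.2, zero_smul, sub_zero])
  have hker : LinearMap.ker (R.mkQ.comp Q) = LinearMap.range (toLin' A') := by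
    ext x
    rw [LinearMap.mem_ker, LinearMap.comp_apply, Submodule.mkQ_apply,
      Submodule.Quotient.mk_eq_zero, LinearMap.mem_range]
    constructor
    · rintro ⟨w, hw, he⟩
      have he' : A *ᵥ w = x - bl x • (a + A *ᵥ a) := congrArg Subtype.val he
      refine ⟨w + bl x • a, ?_⟩
      rw [toLin'_apply, hA'x, mulVec_add, mulVec_smul, he', ← hbl, map_add, (hWbl _).1 hw, map_smul,
        hba, zero_add, smul_eq_mul, mul_one, smul_add]
      abel
    · rintro ⟨z, rfl⟩
      refine ⟨z - bl z • a, (hWbl _).2 (by rw [map_sub, map_smul, hba, smul_eq_mul, mul_one, sub_self]),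
        Subtype.ext ?_⟩
      change A *ᵥ (z - bl z • a) = toLin' A' z - bl (toLin' A' z) • (a + A *ᵥ a)
      rw [toLin'_apply, hA'x, ← hbl, map_add, map_smul, hblA, hba, zero_add, smul_eq_mul, mul_one,
        mulVec_sub, mulVec_smul, smul_add]
      abel
  have hQsurj : Function.Surjective (R.mkQ.comp Q) := fun y => by
    obtain ⟨w, rfl⟩ := R.mkQ_surjective y
    exact ⟨w.1, congrArg R.mkQ (hQW w)⟩
  have e1 : Nat.card (W ⧸ R) = A'.det.natAbs := by
    rw [hcard, ← hker]
    exact Nat.card_congr (LinearMap.quotKerEquivOfSurjective _ hQsurj).toEquiv.symm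
  -- the index of `R` in the relations
  let K : Submodule ℤ W := (LinearMap.range A.mulVecLin).comap W.subtype
  have hRK : R ≤ K := by rintro _ ⟨w, -, rfl⟩; exact ⟨w, rfl⟩
  let φ : (V → ℤ) →ₗ[ℤ] W ⧸ R := R.mkQ.comp Aw
  have hrange : LinearMap.range φ = K.map R.mkQ := by
    ext y
    constructor
    · rintro ⟨z, rfl⟩; exact ⟨Aw z, ⟨z, rfl⟩, rfl⟩
    · rintro ⟨k, ⟨z, hz⟩, rfl⟩; exact ⟨z, congrArg R.mkQ (Subtype.ext hz)⟩
  let χ : (V → ℤ) →ₗ[ℤ] ℤ ⧸ Ideal.span {b ⬝ᵥ b} := (Submodule.mkQ _).comp bl
  have hkerχ : LinearMap.ker φ = LinearMap.ker χ := by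
    ext z
    simp only [φ, χ, LinearMap.mem_ker, LinearMap.comp_apply, Submodule.mkQ_apply,
      Submodule.Quotient.mk_eq_zero, Ideal.mem_span_singleton]
    constructor
    · rintro ⟨w, hw, he⟩
      have he' : A *ᵥ (z - w) = 0 := by
        rw [mulVec_sub, sub_eq_zero]; exact (congrArg Subtype.val he).symm
      have hp := fun v v' => kernel_prop hβ hG he' v v'
      obtain ⟨t, ht⟩ : ∃ t : ℤ, z - w = t • b := by
        refine ⟨∑ v, a v * (z - w) v, funext fun v => ?_⟩
        have e : (z - w) v = ∑ u, a u * b u * (z - w) v := by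
          rw [← sum_mul, ← dotProduct, hab, one_mul]
        rw [e, Pi.smul_apply, smul_eq_mul, sum_mul]
        refine sum_congr rfl fun u _ => ?_
        have h := hp v u
        rw [hb, hb v] at h
        refine mul_left_cancel₀ hg ?_
        linear_combination a u * h
      refine ⟨t, ?_⟩
      have : bl z = bl (z - w) := by rw [map_sub, (hWbl _).1 hw, sub_zero]
      rw [this, ht, map_smul, hbl, smul_eq_mul, mul_comm]
    · rintro ⟨t, ht⟩
      refine ⟨z - t • b, (hWbl _).2 ?_, Subtype.ext ?_⟩
      · rw [map_sub, map_smul, hbl b, ht, smul_eq_mul]; ring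
      · change A *ᵥ (z - t • b) = A *ᵥ z
        rw [mulVec_sub, mulVec_smul, hAb, smul_zero, sub_zero]
  have hχ : Function.Surjective χ := fun y => by
    obtain ⟨n, rfl⟩ := Submodule.mkQ_surjective _ y
    exact ⟨n • a, by
      change Submodule.mkQ _ (bl (n • a)) = _
      rw [map_smul, hba, smul_eq_mul, mul_one]⟩
  have e2 : Nat.card (K.map R.mkQ) = (b ⬝ᵥ b).natAbs := by
    rw [← hrange, ← Nat.card_congr φ.quotKerEquivRange.toEquiv, hkerχ,
      Nat.card_congr (LinearMap.quotKerEquivOfSurjective χ hχ).toEquiv,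
      Nat.card_congr (Int.quotientSpanEquivZMod (b ⬝ᵥ b)).toEquiv, Nat.card_zmod]
  have e3 : Nat.card ((W ⧸ R) ⧸ K.map R.mkQ) = Nat.card (CompGrp ends β) :=
    Nat.card_congr (Submodule.quotientQuotientEquivQuotient R K hRK).toEquiv
  have e4 := Submodule.card_eq_card_quotient_mul_card (K.map R.mkQ)
  rw [e1, e2, e3] at e4
  have e5 : (A'.det.natAbs : ℤ) = (Nat.card (CompGrp ends β) : ℤ) * |b ⬝ᵥ b| := by
    rw [e4, Nat.cast_mul, Int.natCast_natAbs, mul_comm]
  rw [Int.natCast_natAbs, abs_of_pos hbb] at e5
  -- conclude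
  have hPβ : ∏ v, β v = β r * ∏ v ∈ univ.erase r, β v := (mul_prod_erase _ _ (mem_univ r)).symm
  have h5 := congrArg abs hdetA'
  simp only [abs_mul, abs_pow] at h5
  rw [e5, abs_of_pos hbb, abs_of_pos (hβ r).1, sq_abs] at h5
  rw [abs_of_pos hτ] at hadj
  refine mul_left_cancel₀ hbb.ne' ?_
  rw [hPβ]
  linear_combination (∏ v ∈ univ.erase r, β v) ^ 2 * h5 + (b ⬝ᵥ b) * g ^ 2 * hadj

theorem prod_wt_eq (T : Finset E) :
    ∏ e ∈ T, wt ends β e = ∏ v, β v ^ endCount ends T v := by
  simp only [endCount, ← prod_pow_eq_pow_sum]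
  rw [prod_comm]
  refine prod_congr rfl fun e _ => ?_
  simp only [pow_add, prod_mul_distrib, pow_ite, pow_one, pow_zero, prod_ite_eq, mem_univ, if_true]
  rfl

theorem tau_eq (hG : Connected ends) (s : Finset (Finset E))
    (hs : ∀ T, T ∈ s ↔ IsSpanningTree ends T) :
    tau ends β = ∑ T ∈ s, ∏ v, β v ^ nbrCount ends T v := by
  classical
  refine sum_congr (ext fun T => ?_) fun T hT => ?_
  · rw [hs, mem_filter]
    simp
  · obtain ⟨r⟩ := hG.1
    obtain ⟨c, hc, hsub⟩ := exists_good_of_connected r ((hs T).1 hT).1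
    have e : T = imgE c := eq_imgE_of_forest hc hsub ((hs T).1 hT).2
    rw [prod_wt_eq, e]
    simp only [nbrCount_imgE hc]

end Groth.L15.CompGrp
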