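import Groth.Agent.L15.CompGrp.Contract
import Mathlib.LinearAlgebra.Quotient.Basic
import Mathlib.Tactic.Ring

/-!
Contracting a chain of `(-2)`-vertices: the map of component groups and its surjectivity.
-/

set_option autoImplicit false

noncomputable section

universe u

open Finset

namespace Groth.L15.CompGrp

open LabGraph

variable {V E : Type u} [Fintype V] [Fintype E] [DecidableEq V] [DecidableEq E]

/-- Membership in the chain. -/
def InCh (F : ℕ → V) (m : ℕ) (v : V) : Prop := ∃ i, i ≤ m ∧ F i = v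

open scoped Classical in
/-- The weighted neighbour sum outside the chain. -/
def extNb (ends : E → V × V) (F : ℕ → V) (m j : ℕ) (w : V → ℤ) : ℤ :=
  nb ends (F j) fun u => if InCh F m u then 0 else w u

/-- The shape of the graph around a chain of `(-2)`-vertices made of connecting edges. -/
structure ChainData (ends : E → V × V) (β : V → ℤ) (m : ℕ) (D : Finset E) where
  F : ℕ → V
  B : Set V
  hm : 0 < m
  hFinj : ∀ i j, i ≤ m → j ≤ m → F i = F j → i = j
  hFβ : ∀ i, i ≤ m → β (F i) = m
  hFα : ∀ i, i ≤ m → mfMatrix ends β (F i) (F i) = -2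
  hB0 : F 0 ∉ B
  hBF : ∀ i, 1 ≤ i → i ≤ m → F i ∈ B
  hmidnb : ∀ i, 0 < i → i < m → ∀ w : V → ℤ, nb ends (F i) w = w (F (i - 1)) + w (F (i + 1))
  h0 : ∀ w : V → ℤ, nb ends (F 0) w = w (F 1) + extNb ends F m 0 w
  hmm : ∀ w : V → ℤ, nb ends (F m) w = w (F (m - 1)) + extNb ends F m m w
  e0 : extNb ends F m 0 β = m
  em : extNb ends F m m β = m
  hside : ∀ v u, ¬ InCh F m v → ¬ InCh F m u → 0 < edgeMult ends v u → (v ∈ B ↔ u ∈ B)
  hout : ∀ v, ¬ InCh F m v → ∀ j, j ≤ m → 0 < edgeMult ends v (F j) → (v ∈ B → j = m) ∧ (v ∉ B → j = 0)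
  hcls : ∀ v w, DualGr.ctrMk ends D v = DualGr.ctrMk ends D w ↔ v = w ∨ (InCh F m v ∧ InCh F m w)
  hnbC : ∀ v, InCh F m v → ∀ w : DualGr.CtrVert ends D → ℤ,
    nb (DualGr.ctrEnds ends D) (DualGr.ctrMk ends D v) w =
      extNb ends F m 0 (fun u => w (DualGr.ctrMk ends D u)) + extNb ends F m m (fun u => w (DualGr.ctrMk ends D u))

theorem exists_chainData (ends : E → V × V) (β : V → ℤ) (hβ : IsMultFn ends β)
    (m : ℕ) (f : Fin (m + 1) → V) (e : Fin m → E) (hC : IsChain ends f e)
    (hconn : ∀ i, IsConnecting ends (e i)) (hβm : ∀ i, β (f i) = m)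
    (hα : ∀ i, mfMatrix ends β (f i) (f i) = -2) :
    ∃ C : ChainData ends β m (univ.image e), C.F 0 = f 0 := by
  classical
  obtain ⟨hfi, -, he⟩ := hC
  have hm : 0 < m := by
    have := (hβ (f 0)).1
    rw [hβm] at this
    exact_mod_cast this
  -- vertices of the chain indexed by natural numbers
  let F : ℕ → V := fun i => if h : i ≤ m then f ⟨i, by omega⟩ else f 0
  have hF : ∀ i (h : i ≤ m), F i = f ⟨i, by omega⟩ := fun i h => dif_pos h
  have hFinj : ∀ i j, i ≤ m → j ≤ m → F i = F j → i = j := fun i j hi hj h => by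
    rw [hF i hi, hF j hj] at h
    exact congrArg Fin.val (hfi h)
  have hF0 : F 0 = f 0 := hF 0 (Nat.zero_le _)
  have hFβ : ∀ i, i ≤ m → β (F i) = m := fun i hi => by rw [hF i hi, hβm]
  have hFα : ∀ i, i ≤ m → mfMatrix ends β (F i) (F i) = -2 := fun i hi => by rw [hF i hi]; exact hα _
  have hFe : ∀ i (h : i < m), ends (e ⟨i, h⟩) = (F i, F (i + 1)) ∨
      ends (e ⟨i, h⟩) = (F (i + 1), F i) := fun i h => by
    rw [hF i h.le, hF (i + 1) h]; exact he ⟨i, h⟩
  have hadj : ∀ i, i < m → 0 < edgeMult ends (F i) (F (i + 1)) := fun i h => mult_pos (hFe i h)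
  let ch : V → Prop := fun v => ∃ i, i ≤ m ∧ F i = v
  -- each chain vertex has weighted neighbour sum `2m`
  have hsum : ∀ i, i ≤ m → nb ends (F i) β = 2 * m := fun i hi => by
    have h := hFα i hi
    rw [mf_diag, hFβ i hi] at h
    have hd : (m : ℤ) ∣ -(nb ends (F i) β) := by
      rw [← hFβ i hi]; exact dvd_neg.2 (hβ (F i)).2
    obtain ⟨q, hq⟩ := hd
    rw [hq, Int.mul_ediv_cancel_left _ (by exact_mod_cast hm.ne')] at h
    subst h
    linarith
  -- middle vertices only meet their two chain neighbours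
  have hmid : ∀ i, 0 < i → i < m → ∀ u, u ≠ F i → 0 < edgeMult ends (F i) u →
      (u = F (i - 1) ∨ u = F (i + 1)) ∧ edgeMult ends (F i) u = 1 := by
    intro i h0 hi u hu hpos
    have h1 : 0 < edgeMult ends (F i) (F (i - 1)) := by
      rw [mult_comm]
      have := hadj (i - 1) (by omega)
      rwa [Nat.sub_add_cancel h0] at this
    have h2 := hadj i hi
    have hne1 : F (i - 1) ≠ F i := fun h => by have := hFinj _ _ (by omega) (by omega) h; omega
    have hne2 : F (i + 1) ≠ F i := fun h => by have := hFinj _ _ (by omega) (by omega) h; omega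
    have hne3 : F (i + 1) ≠ F (i - 1) := fun h => by
      have := hFinj _ _ (by omega) (by omega) h; omega
    let g : V → ℤ := fun w => β w * (edgeMult ends (F i) w : ℤ)
    have hg : ∀ w ∈ univ.erase (F i), 0 ≤ g w := fun w _ =>
      mul_nonneg (hβ w).1.le (Int.natCast_nonneg _)
    have hA : F (i - 1) ∈ univ.erase (F i) := mem_erase.2 ⟨hne1, mem_univ _⟩
    have hB : F (i + 1) ∈ (univ.erase (F i)).erase (F (i - 1)) :=
      mem_erase.2 ⟨hne3, mem_erase.2 ⟨hne2, mem_univ _⟩⟩
    have htot : g (F (i - 1)) + (g (F (i + 1)) +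
        ∑ w ∈ ((univ.erase (F i)).erase (F (i - 1))).erase (F (i + 1)), g w) = 2 * m := by
      rw [add_sum_erase _ _ hB, add_sum_erase _ _ hA]
      exact hsum i hi.le
    have hmz : (0 : ℤ) < m := by exact_mod_cast hm
    have hg1 : g (F (i - 1)) = m * edgeMult ends (F i) (F (i - 1)) := by
      simp only [g, hFβ (i - 1) (by omega)]
    have hg2 : g (F (i + 1)) = m * edgeMult ends (F i) (F (i + 1)) := by
      simp only [g, hFβ (i + 1) (by omega)]
    have hm1 : (m : ℤ) ≤ g (F (i - 1)) := by
      rw [hg1]; exact le_mul_of_one_le_right hmz.le (by exact_mod_cast h1)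
    have hm2 : (m : ℤ) ≤ g (F (i + 1)) := by
      rw [hg2]; exact le_mul_of_one_le_right hmz.le (by exact_mod_cast h2)
    have hrest : 0 ≤ ∑ w ∈ ((univ.erase (F i)).erase (F (i - 1))).erase (F (i + 1)), g w :=
      sum_nonneg fun w hw => hg w (mem_of_mem_erase (mem_of_mem_erase hw))
    by_cases hu1 : u = F (i - 1)
    · refine ⟨Or.inl hu1, ?_⟩
      subst hu1
      have : g (F (i - 1)) = m := by linarith
      rw [hg1] at this
      exact_mod_cast mul_left_cancel₀ hmz.ne' (this.trans (mul_one _).symm)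
    by_cases hu2 : u = F (i + 1)
    · refine ⟨Or.inr hu2, ?_⟩
      subst hu2
      have : g (F (i + 1)) = m := by linarith
      rw [hg2] at this
      exact_mod_cast mul_left_cancel₀ hmz.ne' (this.trans (mul_one _).symm)
    exfalso
    have hmem : u ∈ ((univ.erase (F i)).erase (F (i - 1))).erase (F (i + 1)) :=
      mem_erase.2 ⟨hu2, mem_erase.2 ⟨hu1, mem_erase.2 ⟨hu, mem_univ _⟩⟩⟩
    have hle := single_le_sum (fun w hw => hg w (mem_of_mem_erase (mem_of_mem_erase hw))) hmem
    have : 0 < g u := mul_pos (hβ u).1 (by exact_mod_cast hpos)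
    linarith
  -- the side of `f m` after cutting the first edge
  obtain ⟨S, hS⟩ := hconn ⟨0, hm⟩
  let B : Set V := {v | (v ∈ S ↔ F 1 ∈ S)}
  have hcross0 : (F 0 ∈ S ↔ F 1 ∉ S) := by
    have h := (hS (e ⟨0, hm⟩)).2 rfl
    rcases hFe 0 hm with h' | h' <;> rw [h'] at h <;> simp only [zero_add] at h <;> tauto
  have hB1 : F 1 ∈ B := Iff.rfl
  have hB0 : F 0 ∉ B := by
    simp only [B, Set.mem_setOf_eq]; tauto
  have hcross : ∀ a b : V, ∀ e', (ends e' = (a, b) ∨ ends e' = (b, a)) → a ∈ B → b ∉ B →
      a = F 1 ∧ b = F 0 := by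
    intro a b e' hab haB hbB
    simp only [B, Set.mem_setOf_eq] at haB hbB
    have h1 : ((ends e').1 ∈ S ↔ (ends e').2 ∉ S) := by
      rcases hab with h | h <;> rw [h] <;> tauto
    have h2 := (hS e').1 h1
    subst h2
    have hne : a ≠ F 0 := fun h => by subst h; tauto
    rcases hFe 0 hm with h | h <;> rcases hab with h' | h' <;> rw [h] at h' <;>
      simp only [Prod.mk.injEq, zero_add] at h' <;> obtain ⟨h3, h4⟩ := h' <;>
      first
        | exact ⟨h4.symm, h3.symm⟩
        | exact ⟨h3.symm, h4.symm⟩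
        | exact absurd h3.symm hne
        | exact absurd h4.symm hne
  have hBF : ∀ i, 1 ≤ i → i ≤ m → F i ∈ B := by
    intro i h1
    induction i, h1 using Nat.le_induction with
    | base => exact fun _ => hB1
    | succ i h1 ih =>
      intro hi
      by_contra hn
      have := (hcross (F i) (F (i + 1)) _ (hFe i (by omega)) (ih (by omega)) hn).2
      have := hFinj _ _ hi (Nat.zero_le _) this
      omega
  -- the values of `z` along the chain are affine
  have hout : ∀ v, ¬ ch v → ∀ j, j ≤ m → 0 < edgeMult ends v (F j) →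
      (v ∈ B → j = m) ∧ (v ∉ B → j = 0) := by
    intro v hv j hj hpos
    have hj' : j = 0 ∨ j = m := by
      by_contra hcon
      rw [mult_comm] at hpos
      rcases (hmid j (by omega) (by omega) v (fun h => hv ⟨j, hj, h.symm⟩) hpos).1 with h | h
      · exact hv ⟨j - 1, by omega, h.symm⟩
      · exact hv ⟨j + 1, by omega, h.symm⟩
    obtain ⟨e', he'⟩ := exists_edge_of_mult hpos
    constructor
    · intro hvB
      rcases hj' with rfl | h
      · exact absurd ⟨1, hm, (hcross v (F 0) e' he' hvB hB0).1.symm⟩ hv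
      · exact h
    · intro hvB
      by_contra hj0
      exact hv ⟨0, Nat.zero_le _,
        (hcross (F j) v e' he'.symm (hBF j (by omega) hj) hvB).2.symm⟩
  -- the classes of the contraction
  have hcls : ∀ v w, DualGr.ctrMk ends (univ.image e) v = DualGr.ctrMk ends (univ.image e) w ↔ v = w ∨ (ch v ∧ ch w) := by
    intro v w
    constructor
    · intro h
      have h' : Relation.EqvGen (DualGr.CtrRel ends (univ.image e)) v w := Quotient.exact h
      induction h' with
      | rel a b hab =>
        obtain ⟨e', he', heq⟩ := hab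
        obtain ⟨i, -, rfl⟩ := mem_image.1 he'
        right
        rcases hFe i.1 i.2 with h' | h' <;> rw [heq] at h' <;> obtain ⟨h1, h2⟩ := Prod.mk.inj h'
        · exact ⟨⟨_, i.2.le, h1.symm⟩, ⟨_, i.2, h2.symm⟩⟩
        · exact ⟨⟨_, i.2, h1.symm⟩, ⟨_, i.2.le, h2.symm⟩⟩
      | refl a => exact Or.inl rfl
      | symm a b hab ih =>
        rcases ih (Quotient.sound hab) with h' | ⟨h1, h2⟩
        · exact Or.inl h'.symm
        · exact Or.inr ⟨h2, h1⟩
      | trans a b c hab hbc ih1 ih2 =>
        rcases ih1 (Quotient.sound hab) with h1 | ⟨h1, h1'⟩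
        · subst h1; exact ih2 (Quotient.sound hbc)
        · rcases ih2 (Quotient.sound hbc) with h2 | ⟨h2, h2'⟩
          · subst h2; exact Or.inr ⟨h1, h1'⟩
          · exact Or.inr ⟨h1, h2'⟩
    · rintro (rfl | ⟨⟨i, hi, rfl⟩, ⟨j, hj, rfl⟩⟩)
      · rfl
      · have hcl : ∀ j, j ≤ m → DualGr.ctrMk ends (univ.image e) (F j) = DualGr.ctrMk ends (univ.image e) (F 0) := by
          intro j
          induction j with
          | zero => intro _; rfl
          | succ j ih =>
            intro hj
            rw [← ih (by omega)]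
            have hmem : e ⟨j, hj⟩ ∈ (univ.image e) := mem_image_of_mem _ (mem_univ _)
            have := DualGr.ctrMk_fst_eq_ctrMk_snd ends (univ.image e) hmem
            rcases hFe j hj with h | h <;> rw [h] at this
            · exact this.symm
            · exact this
        rw [hcl i hi, hcl j hj]
  -- the new function
  let ext : ℕ → (V → ℤ) → ℤ := fun j w => nb ends (F j) fun u => if ch u then 0 else w u
  have hnbC' : ∀ v, ch v → ∀ w : DualGr.CtrVert ends (univ.image e) → ℤ,
      nb (DualGr.ctrEnds ends (univ.image e)) (DualGr.ctrMk ends (univ.image e) v) w =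
        ext 0 (fun u => w (DualGr.ctrMk ends (univ.image e) u)) + ext m (fun u => w (DualGr.ctrMk ends (univ.image e) u)) := by
    intro v hv
    have hnbC : ∀ w : DualGr.CtrVert ends (univ.image e) → ℤ,
        nb (DualGr.ctrEnds ends (univ.image e)) (DualGr.ctrMk ends (univ.image e) v) w =
          ext 0 (fun u => w (DualGr.ctrMk ends (univ.image e) u)) + ext m (fun u => w (DualGr.ctrMk ends (univ.image e) u)) := by
      intro w
      let W : V → ℤ := fun u => if ch u then 0 else w (DualGr.ctrMk ends (univ.image e) u)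
      have h1 : nb (DualGr.ctrEnds ends (univ.image e)) (DualGr.ctrMk ends (univ.image e) v) w =
          ∑ j ∈ range (m + 1), nb ends (F j) W := by
        rw [nb_ctr]
        simp only [nb_eq_sum_edges]
        rw [sum_comm]
        refine sum_congr rfl fun e' _ => ?_
        have hmk : ∀ a, DualGr.ctrMk ends (univ.image e) a = DualGr.ctrMk ends (univ.image e) v ↔ ch a := fun a => by
          rw [hcls]
          exact ⟨fun h => h.elim (fun h => h ▸ hv) And.left, fun h => Or.inr ⟨h, hv⟩⟩
        have key : ∀ a b : V, (if ch a ∧ ¬ ch b then w (DualGr.ctrMk ends (univ.image e) b) else 0) =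
            ∑ j ∈ range (m + 1), if a = F j ∧ b ≠ F j then W b else 0 := by
          intro a b
          by_cases ha : ch a
          · obtain ⟨i, hi, rfl⟩ := ha
            rw [sum_eq_single i]
            · by_cases hb : ch b
              · rw [if_neg (fun h => h.2 hb)]; simp [W, hb]
              · rw [if_pos ⟨⟨i, hi, rfl⟩, hb⟩, if_pos ⟨rfl, fun h => hb ⟨i, hi, h.symm⟩⟩]
                simp [W, hb]
            · intro j hj hji
              refine if_neg fun h => hji ?_
              exact (hFinj i j hi (by simpa [Nat.lt_succ_iff] using hj) h.1).symm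
            · intro h; exact absurd (mem_range.2 (by omega)) h
          · rw [if_neg (fun h => ha h.1)]
            symm
            refine sum_eq_zero fun j hj => if_neg fun h => ha ⟨j, ?_, h.1.symm⟩
            simpa [Nat.lt_succ_iff] using hj
        simp only [ne_eq, hmk, sum_add_distrib]
        rw [key, key]
      rw [h1, sum_eq_add 0 m hm.ne (fun j hj hj' => ?_) (by simp) (by simp)]
      have hjm := mem_range.1 hj
      rw [show (0 : ℤ) = nb ends (F j) fun _ => 0 by simp [nb]]
      refine nb_congr fun u hu hpos => if_pos ?_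
      rcases (hmid j (by omega) (by omega) u hu hpos).1 with h | h
      · exact ⟨j - 1, by omega, h.symm⟩
      · exact ⟨j + 1, by omega, h.symm⟩
    -- at the two ends
    exact hnbC
  have hsplit : ∀ j k : ℕ, j ≤ m → k ≤ m → (∀ u, u ≠ F j → ch u → 0 < edgeMult ends (F j) u → u = F k) →
      k ≠ j → edgeMult ends (F j) (F k) = 1 → ∀ w : V → ℤ, nb ends (F j) w = w (F k) + ext j w := by
    intro j k hj hk honly hkj h1 w
    have hkne : F k ≠ F j := fun h => hkj (hFinj k j hk hj h)
    rw [← sub_eq_iff_eq_add]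
    have : nb ends (F j) w - ext j w = nb ends (F j) (fun u => if ch u then w u else 0) := by
      simp only [ext, nb, ← sum_sub_distrib]
      exact sum_congr rfl fun u _ => by split_ifs <;> ring
    rw [this, nb, sum_eq_single (F k)]
    · rw [if_pos ⟨k, hk, rfl⟩, h1]; simp
    · intro u hu huk
      rcases Nat.eq_zero_or_pos (edgeMult ends (F j) u) with h0 | h0
      · simp [h0]
      · rw [if_neg fun hc => huk (honly u (ne_of_mem_erase hu) hc h0), zero_mul]
    · intro h; exact absurd (mem_erase.2 ⟨hkne, mem_univ _⟩) h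
  have hmult01 : edgeMult ends (F 0) (F 1) = 1 := by
    refine le_antisymm (card_le_one.2 fun a ha b hb => ?_) (hadj 0 hm)
    have key : ∀ a, a ∈ univ.filter (fun e => ends e = (F 0, F 1) ∨ ends e = (F 1, F 0)) →
        a = e ⟨0, hm⟩ := by
      intro a ha
      refine (hS a).1 ?_
      rcases (mem_filter.1 ha).2 with h | h <;> rw [h] <;> tauto
    rw [key a ha, key b hb]
  obtain ⟨S', hS'⟩ := hconn ⟨m - 1, by omega⟩
  have hem : ends (e ⟨m - 1, by omega⟩) = (F (m - 1), F m) ∨
      ends (e ⟨m - 1, by omega⟩) = (F m, F (m - 1)) := by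
    have := hFe (m - 1) (by omega)
    rwa [Nat.sub_add_cancel hm] at this
  have hmultm : edgeMult ends (F m) (F (m - 1)) = 1 := by
    refine le_antisymm (card_le_one.2 fun a ha b hb => ?_) ?_
    · have h0 := (hS' (e ⟨m - 1, by omega⟩)).2 rfl
      have key : ∀ a, a ∈ univ.filter (fun e => ends e = (F m, F (m - 1)) ∨ ends e = (F (m - 1), F m)) →
          a = e ⟨m - 1, by omega⟩ := by
        intro a ha
        refine (hS' a).1 ?_
        rcases (mem_filter.1 ha).2 with h | h <;> rw [h] <;>
          rcases hem with h' | h' <;> rw [h'] at h0 <;> tauto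
      rw [key a ha, key b hb]
    · exact mult_pos hem.symm
  have honly0 : ∀ u, u ≠ F 0 → ch u → 0 < edgeMult ends (F 0) u → u = F 1 := by
    rintro u hu ⟨j, hj, rfl⟩ hpos
    obtain ⟨e', he'⟩ := exists_edge_of_mult hpos
    exact (hcross (F j) (F 0) e' he'.symm
      (hBF j (Nat.pos_of_ne_zero fun h => hu (by rw [h])) hj) hB0).1
  have honlym : ∀ u, u ≠ F m → ch u → 0 < edgeMult ends (F m) u → u = F (m - 1) := by
    rintro u hu ⟨j, hj, rfl⟩ hpos
    have hjm : j ≠ m := fun h => hu (by rw [h])
    rcases Nat.eq_zero_or_pos j with rfl | hj0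
    · obtain ⟨e', he'⟩ := exists_edge_of_mult hpos
      have := hFinj m 1 le_rfl hm (hcross (F m) (F 0) e' he' (hBF m hm le_rfl) hB0).1
      rw [this]
    · rw [mult_comm] at hpos
      rcases (hmid j hj0 (by omega) _ hu.symm hpos).1 with h | h
      · have := hFinj m _ le_rfl (by omega) h; omega
      · have := hFinj m _ le_rfl (by omega) h; rw [this]; congr 1
  have h0 := hsplit 0 1 (Nat.zero_le _) hm honly0 one_ne_zero hmult01
  have hmm := hsplit m (m - 1) le_rfl (Nat.sub_le _ _) honlym (by omega) hmultm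
  have e0 : ext 0 β = m := by
    have h := h0 β
    rw [hsum 0 (Nat.zero_le _), hFβ 1 hm] at h
    linarith
  have em : ext m β = m := by
    have h := hmm β
    rw [hsum m le_rfl, hFβ (m - 1) (Nat.sub_le _ _)] at h
    linarith
  have hmidnb : ∀ i, 0 < i → i < m → ∀ w : V → ℤ, nb ends (F i) w = w (F (i - 1)) + w (F (i + 1)) := by
    intro i h0i him w
    have hne : F (i - 1) ≠ F (i + 1) := fun h => by have := hFinj _ _ (by omega) (by omega) h; omega
    have hne1 : F (i - 1) ≠ F i := fun h => by have := hFinj _ _ (by omega) (by omega) h; omega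
    have hne2 : F (i + 1) ≠ F i := fun h => by have := hFinj _ _ (by omega) (by omega) h; omega
    have ha : 0 < edgeMult ends (F i) (F (i - 1)) := by
      rw [mult_comm]
      have := hadj (i - 1) (by omega)
      rwa [Nat.sub_add_cancel h0i] at this
    have hb := hadj i him
    rw [nb, sum_eq_add (F (i - 1)) (F (i + 1)) hne]
    · rw [(hmid i h0i him _ hne1 ha).2, (hmid i h0i him _ hne2 hb).2]; simp
    · intro u hu hu'
      rcases Nat.eq_zero_or_pos (edgeMult ends (F i) u) with h0 | h0
      · simp [h0]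
      · rcases (hmid i h0i him u (ne_of_mem_erase hu) h0).1 with h | h
        · exact absurd h hu'.1
        · exact absurd h hu'.2
    · intro h; exact absurd (mem_erase.2 ⟨hne1, mem_univ _⟩) h
    · intro h; exact absurd (mem_erase.2 ⟨hne2, mem_univ _⟩) h
  have hside : ∀ v u, ¬ ch v → ¬ ch u → 0 < edgeMult ends v u → (v ∈ B ↔ u ∈ B) := by
    intro v u hv hu hpos
    obtain ⟨e', he'⟩ := exists_edge_of_mult hpos
    refine ⟨fun h => ?_, fun h => ?_⟩ <;> by_contra hn
    · exact hv ⟨1, hm, (hcross v u e' he' h hn).1.symm⟩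
    · exact hu ⟨1, hm, (hcross u v e' he'.symm h hn).1.symm⟩
  have hext : ∀ j w, extNb ends F m j w = ext j w := fun j w =>
    congrArg (nb ends (F j)) (funext fun u => by by_cases h : ch u <;> simp [h, InCh, ch] <;> simp_all [ch])
  exact ⟨⟨F, B, hm, hFinj, hFβ, hFα, hB0, hBF, hmidnb, fun w => by rw [hext]; exact h0 w,
    fun w => by rw [hext]; exact hmm w, (hext 0 β).trans e0, (hext m β).trans em, hside, hout, hcls,
    fun v hv w => by rw [hext, hext]; exact hnbC' v hv w⟩, hF0⟩

theorem acc_step (b : ℕ → ℤ) (j : ℕ) :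
    (∑ i ∈ range (j + 2), (((j + 2 : ℕ) : ℤ) - i) * b i) + ∑ i ∈ range j, ((j : ℤ) - i) * b i =
      2 * (∑ i ∈ range (j + 1), (((j + 1 : ℕ) : ℤ) - i) * b i) + b (j + 1) := by
  have h : ∀ k : ℕ, ∑ i ∈ range (k + 1), (((k + 1 : ℕ) : ℤ) - i) * b i =
      (∑ i ∈ range k, ((k : ℤ) - i) * b i) + ∑ i ∈ range (k + 1), b i := by
    intro k
    simp only [sum_range_succ, ← add_assoc, ← sum_add_distrib]
    push_cast
    congr 1
    · exact sum_congr rfl fun i _ => by ring
    · ring
  rw [h (j + 1), h j, sum_range_succ _ (j + 1)]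
  ring

namespace ChainData

variable {ends : E → V × V} {β : V → ℤ} {m : ℕ} {D : Finset E} (C : ChainData ends β m D)
include C

theorem inCh_F {i : ℕ} (hi : i ≤ m) : InCh C.F m (C.F i) := ⟨i, hi, rfl⟩

/-- A function on the chain with prescribed images at the vertices after the first. -/
theorem exists_clear (y : V → ℤ) :
    ∃ z : V → ℤ, ∀ i, 1 ≤ i → i ≤ m → y (C.F i) + (mfMatrix ends β).mulVec z (C.F i) = 0 := by
  classical
  let b : ℕ → ℤ := fun i => if 1 ≤ i ∧ i ≤ m then y (C.F i) else 0
  let A : ℕ → ℤ := fun j => ∑ i ∈ range j, ((j : ℤ) - i) * b i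
  let z : V → ℤ := fun v => if h : InCh C.F m v then A (m + 1) - A h.choose else 0
  have hz : ∀ i, i ≤ m → z (C.F i) = A (m + 1) - A i := by
    intro i hi
    have h := C.inCh_F hi
    simp only [z, dif_pos h, C.hFinj _ _ h.choose_spec.1 hi h.choose_spec.2]
  refine ⟨z, fun i hi1 hi => ?_⟩
  rw [mulVec_eq, C.hFα i hi]
  obtain ⟨j, rfl⟩ : ∃ j, i = j + 1 := ⟨i - 1, by omega⟩
  have hb : b (j + 1) = y (C.F (j + 1)) := if_pos ⟨hi1, hi⟩
  have hstep : A (j + 2) + A j = 2 * A (j + 1) + b (j + 1) := acc_step b j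
  rw [hb] at hstep
  rcases eq_or_lt_of_le hi with hlast | hlt
  · subst hlast
    rw [C.hmm, hz _ le_rfl, Nat.add_sub_cancel, hz _ (by omega)]
    have : extNb ends C.F (j + 1) (j + 1) z = 0 := by
      rw [extNb, nb]
      refine sum_eq_zero fun u _ => ?_
      by_cases h : InCh C.F (j + 1) u <;> simp [h, z]
    rw [this]
    linear_combination -hstep
  · rw [C.hmidnb _ (by omega) hlt, hz _ hi, Nat.add_sub_cancel, hz _ (by omega), hz _ (by omega)]
    linear_combination -hstep

/-- Constant values on the chain come from the contraction. -/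
theorem ctrFn_mk (v : V) : ctrFn ends D β (DualGr.ctrMk ends D v) = β v := by
  change β _ = β v
  rcases (C.hcls _ _).1 (Quotient.out_eq (s := DualGr.ctrSetoid ends D) (DualGr.ctrMk ends D v)) with h | ⟨⟨i, hi, h1⟩, ⟨j, hj, h2⟩⟩
  · rw [h]
  · rw [← h1, C.hFβ i hi, ← h2, C.hFβ j hj]

/-- Lifts of images are images. -/
theorem lift_mem_range (hβ : IsMultFn ends β) (z' : DualGr.CtrVert ends D → ℤ) :
    liftAt ends D (C.F 0) ((mfMatrix (DualGr.ctrEnds ends D) (ctrFn ends D β)).mulVec z') ∈
      LinearMap.range (Matrix.mulVecLin (mfMatrix ends β)) := by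
  classical
  let W : V → ℤ := fun u => z' (DualGr.ctrMk ends D u)
  have hmk0 : ∀ i, i ≤ m → DualGr.ctrMk ends D (C.F i) = DualGr.ctrMk ends D (C.F 0) := fun i hi =>
    (C.hcls _ _).2 (Or.inr ⟨C.inCh_F hi, C.inCh_F (Nat.zero_le _)⟩)
  let δ : ℤ := extNb ends C.F m m W - W (C.F 0)
  let z : V → ℤ := fun v => if h : InCh C.F m v then W (C.F 0) + (h.choose : ℤ) * δ
    else if v ∈ C.B then W v + δ * β v else W v
  have hz : ∀ i, i ≤ m → z (C.F i) = W (C.F 0) + (i : ℤ) * δ := by
    intro i hi
    have h := C.inCh_F hi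
    simp only [z, dif_pos h, C.hFinj _ _ h.choose_spec.1 hi h.choose_spec.2]
  refine ⟨z, funext fun v => ?_⟩
  rw [Matrix.mulVecLin_apply, mulVec_eq, liftAt]
  by_cases hv : InCh C.F m v
  · obtain ⟨i, hi, rfl⟩ := hv
    have hm := C.hm
    by_cases h0 : i = 0
    · subst h0
      rw [if_neg (fun h => h.2 rfl), mulVec_eq, mf_diag (DualGr.ctrEnds ends D), C.ctrFn_mk, C.hFβ 0 hi,
        C.hFα 0 hi, C.hnbC _ (C.inCh_F hi), C.hnbC _ (C.inCh_F hi), C.h0, hz _ hi, hz 1 hm]
      simp only [C.ctrFn_mk, C.e0, C.em]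
      rw [show (-((m : ℤ) + m)) = (-2) * (m : ℤ) by ring,
        Int.mul_ediv_cancel _ (by exact_mod_cast hm.ne')]
      have hext : extNb ends C.F m 0 z = extNb ends C.F m 0 W := by
        refine nb_congr fun u hu hpos => ?_
        by_cases hc : InCh C.F m u
        · simp [hc]
        · rw [mult_comm] at hpos
          have : u ∉ C.B := fun h => hm.ne ((C.hout u hc 0 hi hpos).1 h)
          simp [z, hc, this]
      rw [hext]
      show _ = -2 * W (C.F 0) + (extNb ends C.F m 0 W + extNb ends C.F m m W)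
      push_cast
      simp only [δ]
      ring
    · rw [if_pos ⟨hmk0 i hi, fun h => h0 (C.hFinj i 0 hi (Nat.zero_le _) h)⟩, C.hFα i hi, hz _ hi]
      rcases eq_or_lt_of_le hi with hlast | hlt
      · subst hlast
        rw [C.hmm, hz _ (Nat.sub_le _ _), Nat.cast_sub hm]
        have hext : extNb ends C.F i i z = extNb ends C.F i i W - (-δ) * extNb ends C.F i i β := by
          simp only [extNb]
          rw [← nb_sub_smul]
          refine nb_congr fun u hu hpos => ?_
          by_cases hc : InCh C.F i u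
          · simp [hc]
          · rw [mult_comm] at hpos
            have : u ∈ C.B := by
              by_contra h
              exact h0 ((C.hout u hc i le_rfl hpos).2 h)
            simp [z, hc, this]
        rw [hext, C.em]
        push_cast
        simp only [δ]
        ring
      · rw [C.hmidnb i (Nat.pos_of_ne_zero h0) hlt, hz _ (by omega), hz _ (by omega),
          Nat.cast_sub (Nat.one_le_iff_ne_zero.2 h0)]
        push_cast
        ring
  · rw [if_neg (fun h => hv (((C.hcls _ _).1 h.1).elim (fun h' => absurd h' h.2) And.left)), mulVec_eq,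
      mf_diag (DualGr.ctrEnds ends D), C.ctrFn_mk]
    have hnb : ∀ w : DualGr.CtrVert ends D → ℤ,
        nb (DualGr.ctrEnds ends D) (DualGr.ctrMk ends D v) w = nb ends v fun u => w (DualGr.ctrMk ends D u) := by
      intro w
      rw [nb_ctr, nb_eq_sum_edges]
      have hmk : ∀ a, DualGr.ctrMk ends D a = DualGr.ctrMk ends D v ↔ a = v := fun a => by
        rw [C.hcls]
        exact ⟨fun h => h.elim id fun h => absurd h.2 hv, Or.inl⟩
      simp only [ne_eq, hmk]
    rw [hnb, hnb]
    simp only [C.ctrFn_mk]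
    rw [← mf_diag]
    by_cases hB : v ∈ C.B
    · have h1 : nb ends v z = nb ends v W - (-δ) * nb ends v β := by
        rw [← nb_sub_smul]
        refine nb_congr fun u hu hpos => ?_
        by_cases hc : InCh C.F m u
        · obtain ⟨j, hj, rfl⟩ := hc
          obtain rfl := (C.hout v hv j hj hpos).1 hB
          rw [hz _ le_rfl, C.hFβ _ le_rfl]
          show _ = z' (DualGr.ctrMk ends D (C.F j)) - _
          rw [hmk0 j le_rfl]
          simp only [W]
          ring
        · simp [z, hc, (C.hside v u hv hc hpos).1 hB]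
      obtain ⟨q, hq⟩ := dvd_neg.2 (hβ v).2
      have hq' : -(nb ends v β) = β v * q := hq
      rw [show mfMatrix ends β v v = q by
        rw [mf_diag, hq', Int.mul_ediv_cancel_left _ (hβ v).1.ne'], h1]
      have : z v = W v + δ * β v := by simp [z, hv, hB]
      rw [this]
      show _ = q * W v + nb ends v W
      linear_combination -δ * hq'
    · have h1 : nb ends v z = nb ends v W := by
        refine nb_congr fun u hu hpos => ?_
        by_cases hc : InCh C.F m u
        · obtain ⟨j, hj, rfl⟩ := hc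
          obtain rfl := (C.hout v hv j hj hpos).2 hB
          rw [hz _ (Nat.zero_le _)]
          simp [W]
        · have hu' : u ∉ C.B := fun h => hB ((C.hside v u hv hc hpos).2 h)
          simp [z, hc, hu', W]
      rw [h1]
      have : z v = W v := by simp [z, hv, hB]
      rw [this]

theorem sum_lift (x : DualGr.CtrVert ends D → ℤ) :
    ∑ v, liftAt ends D (C.F 0) x v * β v = ∑ c, x c * ctrFn ends D β c := by
  classical
  rw [← sum_fiberwise univ (DualGr.ctrMk ends D)]
  refine sum_congr rfl fun c _ => ?_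
  obtain ⟨v₁, rfl⟩ := DualGr.ctrMk_surjective ends D c
  by_cases hv : InCh C.F m v₁
  · have hcl : DualGr.ctrMk ends D v₁ = DualGr.ctrMk ends D (C.F 0) :=
      (C.hcls _ _).2 (Or.inr ⟨hv, C.inCh_F (Nat.zero_le _)⟩)
    rw [hcl, C.ctrFn_mk, sum_eq_single (C.F 0)]
    · rw [liftAt, if_neg (fun h => h.2 rfl)]
    · intro b hb hne
      rw [liftAt, if_pos ⟨(mem_filter.1 hb).2, hne⟩, zero_mul]
    · simp
  · rw [C.ctrFn_mk, sum_eq_single v₁]
    · rw [liftAt, if_neg (fun h => hv (((C.hcls _ _).1 h.1).elim (fun h' => absurd h' h.2) And.left))]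
    · intro b hb hne
      rcases (C.hcls _ _).1 (mem_filter.1 hb).2 with h | h
      · exact absurd h hne
      · exact absurd h.2 hv
    · simp

theorem surjective_data (hβ : IsMultFn ends β) :
    ∃ φ : CompGrp (DualGr.ctrEnds ends D) (ctrFn ends D β) →+ CompGrp ends β,
      Function.Surjective φ ∧
      ∀ (x : LinearMap.ker (betaHom (ctrFn ends D β))) (y : LinearMap.ker (betaHom β)),
        (y : V → ℤ) = liftAt ends D (C.F 0) (x : DualGr.CtrVert ends D → ℤ) →
        φ (Submodule.Quotient.mk x) = Submodule.Quotient.mk y := by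
  classical
  let L : (DualGr.CtrVert ends D → ℤ) →ₗ[ℤ] (V → ℤ) :=
    { toFun := liftAt ends D (C.F 0)
      map_add' := fun x x' => funext fun v => by simp only [liftAt, Pi.add_apply]; split_ifs <;> simp
      map_smul' := fun r x => funext fun v => by simp only [liftAt, Pi.smul_apply, RingHom.id_apply]; split_ifs <;> simp }
  have hL : ∀ x : DualGr.CtrVert ends D → ℤ, x ∈ LinearMap.ker (betaHom (ctrFn ends D β)) ↔ L x ∈ LinearMap.ker (betaHom β) := fun x => by
    simp only [LinearMap.mem_ker, betaHom, Fintype.linearCombination_apply, smul_eq_mul]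
    rw [← C.sum_lift x]
    rfl
  let Lk : LinearMap.ker (betaHom (ctrFn ends D β)) →ₗ[ℤ] LinearMap.ker (betaHom β) :=
    L.restrict fun x hx => (hL x).1 hx
  have hmap : (LinearMap.range (Matrix.mulVecLin (mfMatrix (DualGr.ctrEnds ends D) (ctrFn ends D β)))).comap
      (LinearMap.ker (betaHom (ctrFn ends D β))).subtype ≤
      ((LinearMap.range (Matrix.mulVecLin (mfMatrix ends β))).comap (LinearMap.ker (betaHom β)).subtype).comap Lk := by
    rintro x ⟨z', hz'⟩
    show L x ∈ LinearMap.range (Matrix.mulVecLin (mfMatrix ends β))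
    rw [show (x : DualGr.CtrVert ends D → ℤ) = _ from hz'.symm]
    exact C.lift_mem_range hβ z'
  refine ⟨(Submodule.mapQ _ _ Lk hmap).toAddMonoidHom, fun q => ?_, fun x y hxy => ?_⟩
  · obtain ⟨y, rfl⟩ := Submodule.Quotient.mk_surjective _ q
    obtain ⟨z, hz⟩ := C.exists_clear y
    let y' : V → ℤ := (y : V → ℤ) + (mfMatrix ends β).mulVec z
    let x : DualGr.CtrVert ends D → ℤ := fun c => ∑ v ∈ univ.filter (fun v => DualGr.ctrMk ends D v = c), y' v
    have hLx : L x = y' := by
      funext v
      show liftAt ends D (C.F 0) x v = y' v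
      rw [liftAt]
      split_ifs with h
      · obtain ⟨i, hi, rfl⟩ := ((C.hcls _ _).1 h.1).elim (fun h' => absurd h' h.2) And.left
        exact (hz i (Nat.pos_of_ne_zero fun h0 => h.2 (by rw [h0])) hi).symm
      · show ∑ u ∈ _, y' u = y' v
        rw [sum_eq_single v]
        · intro b hb hne
          rcases (C.hcls _ _).1 (mem_filter.1 hb).2 with hb' | ⟨⟨i, hi, rfl⟩, hv⟩
          · exact absurd hb' hne
          · have hv0 : v = C.F 0 := by
              by_contra hne'
              exact h ⟨(C.hcls _ _).2 (Or.inr ⟨hv, C.inCh_F (Nat.zero_le _)⟩), hne'⟩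
            exact hz i (Nat.pos_of_ne_zero fun h0 => hne (by rw [h0, hv0])) hi
        · simp
    have hαker : (mfMatrix ends β).mulVec z ∈ LinearMap.ker (betaHom β) := by
      simp only [LinearMap.mem_ker, betaHom, Fintype.linearCombination_apply, smul_eq_mul, Matrix.mulVec,
        dotProduct, sum_mul]
      rw [sum_comm]
      refine sum_eq_zero fun u _ => ?_
      obtain ⟨q, hq⟩ := dvd_neg.2 (hβ u).2
      rw [← add_sum_erase _ _ (mem_univ u)]
      have hdiag : mfMatrix ends β u u = q := by
        rw [mfMatrix, if_pos rfl, hq, Int.mul_ediv_cancel_left _ (hβ u).1.ne']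
      rw [hdiag, sum_congr rfl fun v hv => by rw [mfMatrix, if_neg (ne_of_mem_erase hv), mult_comm,
        show ((edgeMult ends u v : ℕ) : ℤ) * z u * β v = z u * (β v * (edgeMult ends u v : ℤ)) by ring], ← mul_sum]
      linear_combination -(z u) * hq
    have hy' : y' ∈ LinearMap.ker (betaHom β) := Submodule.add_mem _ y.2 hαker
    refine ⟨Submodule.Quotient.mk ⟨x, (hL x).2 (by rw [hLx]; exact hy')⟩, ?_⟩
    show Submodule.mapQ _ _ Lk hmap (Submodule.Quotient.mk _) = _
    rw [Submodule.mapQ_apply, Submodule.Quotient.eq]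
    refine ⟨z, ?_⟩
    show (mfMatrix ends β).mulVec z = L x - (y : V → ℤ)
    rw [hLx]
    simp [y']
  · show Submodule.mapQ _ _ Lk hmap (Submodule.Quotient.mk x) = _
    rw [Submodule.mapQ_apply]
    exact congrArg _ (Subtype.ext hxy.symm)

end ChainData

end Groth.L15.CompGrp
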